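import Cfsg.Agent.Lib.Fi22Local.Basic
import Cfsg.Agent.Lib.FischerUnique23.OmegaData

/-!
The subgroup of type Omega(7, 3) of the presented Fi22 fixing the end of the diagram: its transpositions
form one class of 351, and at most seven of them commute pairwise.
-/

set_option autoImplicit false
set_option maxRecDepth 100000

namespace Cfsg.Agent.FischerUnique23

open Cfsg.Agent.CosetCert
open Cfsg.Agent.Fi22Local
open Cfsg.Agent.FischerPresented
open Cfsg.Agent.FischerPresented.Out22 (gpt tr_gpt)

/-- The subgroup. -/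
noncomputable def M22om : Subgroup GG := Subgroup.closure (gn '' {x | x ∈ om7Gens})

/-- The entry at a position. -/
def om7At (i : ℕ) : ℕ := (om7Pts.getD i (0, 0, 0)).1

theorem om7_growth : allBelow (fun i => Nat.beq i 0 ||
    (let n := om7Pts.getD i (0, 0, 0)
     Nat.blt n.2.1 i && om7Gens.contains n.2.2 &&
       Nat.beq (act [n.2.2] (om7At n.2.1)) n.1)) om7Pts.length = true := by decide +kernel

theorem om7_lt : (om7Pts.all fun n => Nat.blt n.1 3510 && bit om7Mask n.1 &&
    om7Gens.all fun x => bit om7Mask (act [x] n.1)) = true := by decide +kernel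

theorem om7_mask : allBelow (fun p => bit om7Mask p == ((om7Pts.map (·.1)).contains p)) 3510 = true := by
  decide +kernel

theorem om7_outside : allBelow (fun p => bit om7Mask p ||
    (List.range 14).any fun i => !bit om7Mask (tapp p (om7At i))) 3510 = true := by decide +kernel

theorem om7_nbrs : (om7Pts.all fun n => Nat.beq n.1 0 || !Nat.beq (tapp 0 n.1) n.1 ||
    om7Nbrs.contains n.1) = true := by decide +kernel

theorem om7_rows : allBelow (fun i => allBelow (fun j => Nat.beq i j || bit (om7Rows.getD i 0) j ||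
    !Nat.beq (tapp (om7Nbrs.getD i 0) (om7Nbrs.getD j 0)) (om7Nbrs.getD j 0)) 126) 126 = true := by
  decide +kernel

/-- One level of the search. -/
def noClStep (adj : List ℕ) (f : List ℕ → Bool) : List ℕ → Bool
  | [] => true
  | a :: t => f (t.filter fun b => bit (adj.getD a 0) b) && noClStep adj f t

/-- No `k` members of the list are pairwise related by the rows. -/
def noCl (adj : List ℕ) : ℕ → List ℕ → Bool
  | 0, _ => false
  | k + 1, l => noClStep adj (noCl adj k) l

theorem noCl_spec (adj : List ℕ) : ∀ (k : ℕ) (l c : List ℕ), noCl adj k l = true → List.Sublist c l →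
    c.Pairwise (fun a b => bit (adj.getD a 0) b = true) → c.length < k
  | 0, l, c, h, _, _ => by simp [noCl] at h
  | k + 1, l, c, h, hs, hp => by
    rw [noCl] at h
    induction hs with
    | slnil => simp
    | @cons c' l' a _ ih =>
      rw [noClStep, Bool.and_eq_true] at h
      exact ih h.2 hp
    | @cons_cons c' l' a hs' _ =>
      rw [noClStep, Bool.and_eq_true] at h
      rw [List.pairwise_cons] at hp
      have hf : List.Sublist c' (l'.filter fun b => bit (adj.getD a 0) b) := by
        have := hs'.filter fun b => bit (adj.getD a 0) b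
        rwa [List.filter_eq_self.2 hp.1] at this
      have := noCl_spec adj k _ _ h.1 hf hp.2
      simp only [List.length_cons]
      omega

theorem om7_seven_free : noCl om7Rows 7 (List.range 126) = true := by decide +kernel

theorem om7_seven : (om7Seven.all fun p => bit om7Mask p && Nat.blt p 3510 &&
    om7Seven.all fun q => Nat.beq (tapp p q) q) = true := by decide +kernel

theorem om7_first : om7At 0 = 0 := rfl

theorem trN_zero_gn : trN 0 = gn 0 := by
  rw [trN]
  exact el_eq (u := trW 0) (v := [0]) (by decide +kernel) |>.trans (by simp [el, wprod])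

theorem apt_gn {x : ℕ} (hx : x < 9) {p : ℕ} (hp : p < 3510) : apt (gn x) p = act [x] p := by
  rw [← apt_el (w := [x]) (by simp [wok, hx]) hp]
  simp [el, wprod]

theorem om7Gens_lt : ∀ x ∈ om7Gens, x < 9 := by decide

theorem mask_iff {p : ℕ} (hp : p < 3510) : bit om7Mask p = true ↔ ∃ i < om7Pts.length, om7At i = p := by
  have h := allBelow_spec om7_mask hp
  rw [beq_iff_eq] at h
  rw [h, List.contains_iff_mem, List.mem_map]
  constructor
  · rintro ⟨n, hn, rfl⟩
    obtain ⟨i, hi, rfl⟩ := List.getElem_of_mem hn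
    exact ⟨i, hi, by rw [om7At, List.getD_eq_getElem _ _ hi]⟩
  · rintro ⟨i, hi, rfl⟩
    exact ⟨_, List.getElem_mem hi, by rw [om7At, List.getD_eq_getElem _ _ hi]⟩

theorem om7At_lt {i : ℕ} (hi : i < om7Pts.length) : om7At i < 3510 := by
  have h := List.all_eq_true.1 om7_lt _ (List.getElem_mem hi)
  simp only [Bool.and_eq_true, Nat.blt_eq] at h
  rw [om7At, List.getD_eq_getElem _ _ hi]
  exact h.1.1

theorem om7_reach : ∀ i < om7Pts.length, ∃ g ∈ M22om, apt g 0 = om7At i := by
  intro i
  induction i using Nat.strong_induction_on with | _ i ih => ?_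
  intro hi
  have h := allBelow_spec om7_growth hi
  simp only [Bool.or_eq_true, Bool.and_eq_true, Nat.beq_eq, Nat.blt_eq, List.contains_iff_mem] at h
  rcases h with rfl | ⟨⟨h1, h2⟩, h3⟩
  · exact ⟨1, one_mem _, apt_one 0⟩
  · obtain ⟨g, hg, he⟩ := ih _ h1 (h1.trans hi)
    refine ⟨gn _ * g, mul_mem (Subgroup.subset_closure ⟨_, h2, rfl⟩) hg, ?_⟩
    rw [apt_mul, he, apt_gn (om7Gens_lt _ h2) (om7At_lt (h1.trans hi)), h3]
    rfl

theorem gn_mask {x : ℕ} (hx : x ∈ om7Gens) {p : ℕ} (hp : p < 3510) (hb : bit om7Mask p = true) :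
    bit om7Mask (apt (gn x) p) = true := by
  obtain ⟨i, hi, rfl⟩ := (mask_iff hp).1 hb
  have h := List.all_eq_true.1 om7_lt _ (List.getElem_mem hi)
  simp only [Bool.and_eq_true] at h
  rw [apt_gn (om7Gens_lt _ hx) hp, om7At, List.getD_eq_getElem _ _ hi]
  exact List.all_eq_true.1 h.2 x hx

theorem mask_preserved {g : GG} (hg : g ∈ M22om) : ∀ p < 3510, bit om7Mask (apt g p) = bit om7Mask p := by
  induction hg using Subgroup.closure_induction with
  | mem y hy =>
    obtain ⟨x, hx, rfl⟩ := hy
    intro p hp
    have h2 : apt (gn x) (apt (gn x) p) = p := by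
      rw [← apt_mul, Setup.gen_invol, apt_one]
    cases hb : bit om7Mask p with
    | true => exact gn_mask hx hp hb
    | false =>
      cases hb' : bit om7Mask (apt (gn x) p) with
      | false => rfl
      | true =>
        have := gn_mask hx (apt_lt _ hp) hb'
        rw [h2, hb] at this
        exact absurd this (by simp)
  | one => intro p _; rw [apt_one]
  | mul a b _ _ ha hb => intro p hp; rw [apt_mul, ha _ (apt_lt b hp), hb p hp]
  | inv a _ ha =>
    intro p hp
    rw [← ha _ (apt_lt _ hp), ← apt_mul, mul_inv_cancel, apt_one]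

/-- The transpositions in the subgroup are the listed ones. -/
theorem mem_M22om_iff {p : ℕ} (hp : p < 3510) : trN p ∈ M22om ↔ bit om7Mask p = true := by
  constructor
  · intro h
    by_contra hb
    have hw := allBelow_spec om7_outside hp
    simp only [Bool.or_eq_true, hb, false_or, List.any_eq_true, List.mem_range, Bool.not_eq_true'] at hw
    obtain ⟨i, hi, hi2⟩ := hw
    have hlen : 14 ≤ om7Pts.length := by decide +kernel
    have hlt := om7At_lt (i := i) (by omega)
    have := mask_preserved h _ hlt
    rw [apt_trN hp hlt, hi2, (mask_iff hlt).2 ⟨i, by omega, rfl⟩] at this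
    exact absurd this (by simp)
  · intro hb
    obtain ⟨i, hi, rfl⟩ := (mask_iff hp).1 hb
    obtain ⟨g, hg, he⟩ := om7_reach i hi
    rw [← he, trN_apt g (by norm_num), trN_zero_gn]
    exact mul_mem (mul_mem hg (Subgroup.subset_closure ⟨0, List.mem_cons_self, rfl⟩)) (inv_mem hg)

/-- The bound on commuting transpositions in the subgroup. -/
theorem om7_clique {E : Finset ℕ} (hE : ∀ p ∈ E, p < 3510 ∧ bit om7Mask p = true)
    (hc : ∀ p ∈ E, ∀ q ∈ E, tapp p q = q) : E.card ≤ 7 := by
  classical
  rcases E.eq_empty_or_nonempty with rfl | ⟨e, he⟩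
  · simp
  obtain ⟨i, hi, hie⟩ := (mask_iff (hE e he).1).1 (hE e he).2
  obtain ⟨g, hg, hge⟩ := om7_reach i hi
  rw [hie] at hge
  have h0 : apt g⁻¹ e = 0 := by rw [← hge, ← apt_mul, inv_mul_cancel, apt_one]
  set E' := E.image (apt g⁻¹) with hE'
  have hcard : E'.card = E.card := Finset.card_image_of_injective _ fun a b h => apt_injective _ h
  have hprop : ∀ p ∈ E', (p < 3510 ∧ bit om7Mask p = true) ∧ ∀ q ∈ E', tapp p q = q := by
    intro p hp
    obtain ⟨a, ha, rfl⟩ := Finset.mem_image.1 hp
    refine ⟨⟨apt_lt _ (hE a ha).1, ?_⟩, fun q hq => ?_⟩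
    · rw [mask_preserved (inv_mem hg) a (hE a ha).1]; exact (hE a ha).2
    · obtain ⟨b, hb, rfl⟩ := Finset.mem_image.1 hq
      rw [← apt_tapp _ (hE a ha).1 (hE b hb).1, hc a ha b hb]
  have h0E : 0 ∈ E' := Finset.mem_image.2 ⟨e, he, h0⟩
  set c := (List.range 126).filter fun j => decide (om7Nbrs.getD j 0 ∈ E') with hcdef
  have hsub : E'.erase 0 ⊆ (c.map fun j => om7Nbrs.getD j 0).toFinset := by
    intro p hp
    obtain ⟨hp0, hp⟩ := Finset.mem_erase.1 hp
    obtain ⟨j, hj, hjp⟩ := (mask_iff (hprop p hp).1.1).1 (hprop p hp).1.2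
    have h := List.all_eq_true.1 om7_nbrs _ (List.getElem_mem hj)
    have hjp' : (om7Pts[j]).1 = p := by rw [← hjp, om7At, List.getD_eq_getElem _ _ hj]
    simp only [hjp', Bool.or_eq_true, Nat.beq_eq, hp0, Bool.not_eq_true', false_or, List.contains_iff_mem] at h
    rcases h with h | h
    · exact absurd ((hprop 0 h0E).2 p hp) (Nat.ne_of_beq_eq_false h)
    · obtain ⟨t, ht, rfl⟩ := List.getElem_of_mem h
      have ht' : t < 126 := ht.trans_eq (by decide +kernel)
      rw [List.mem_toFinset, List.mem_map]
      refine ⟨t, List.mem_filter.2 ⟨List.mem_range.2 ht', ?_⟩, List.getD_eq_getElem _ _ ht⟩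
      rw [decide_eq_true_iff, List.getD_eq_getElem _ _ ht]; exact hp
  have hpw : c.Pairwise (fun a b => bit (om7Rows.getD a 0) b = true) := by
    refine (List.Pairwise.filter _ List.nodup_range).imp_of_mem ?_
    intro a b ha hb hab
    simp only [hcdef, List.mem_filter, List.mem_range, decide_eq_true_iff] at ha hb
    have h := allBelow_spec (allBelow_spec om7_rows ha.1) hb.1
    simp only [Bool.or_eq_true, Nat.beq_eq, hab, false_or, Bool.not_eq_true'] at h
    rcases h with h | h
    · exact h
    · exact absurd ((hprop _ ha.2).2 _ hb.2) (Nat.ne_of_beq_eq_false h)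
  have hlt := noCl_spec om7Rows 7 _ c om7_seven_free List.filter_sublist hpw
  have h1 := (Finset.card_le_card hsub).trans (List.toFinset_card_le _)
  rw [List.length_map, Finset.card_erase_of_mem h0E, hcard] at h1
  omega

end Cfsg.Agent.FischerUnique23
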