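import Cfsg.Agent.Lib.FischerUnique23.Pair
import Cfsg.Agent.Lib.FischerUnique23.OmegaFi22
import Cfsg.Agent.Lib.FischerPresented.Out23Tr
import Cfsg.Agent.Lib.FischerPresented.O73Group
import Cfsg.Agent.Lib.Fischer.LocalSymThree

/-!
Two non-commuting transpositions in Fi23: their joint centraliser is of type Omega(7, 3).
-/

set_option autoImplicit false
set_option maxRecDepth 100000

namespace Cfsg.Agent.FischerUnique23

open Cfsg.Agent.CosetCert
open Cfsg.Agent.CosetData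
open Cfsg.Agent.Fischer.Factor
open Cfsg.Agent.FischerUnique
open Cfsg.Agent.Fi22Local
open Cfsg.Agent.FischerPresented
open Cfsg.Agent.FischerPresented.Out23 (tr tr_eq tr_zero tr_mem exists_tr fix_iff hom_word hom_gen_val hom_mul_apply eqv eqv_mk)

local notation "FT" => CosetData.Fi23A.setup

/-- The subgroup generated by the generators commuting with both z and the last one. -/
noncomputable def K1 : Subgroup GT := Subgroup.closure (gT '' {x | x ∈ om7Gens})

/-- The joint centraliser of the non-commuting pair. -/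
noncomputable def C1 : Subgroup GT := Subgroup.centralizer ({Fi23.z, gT 9} : Set GT)

theorem gT_nine_mem : gT 9 ∈ Fi23.D := by
  have h6 := (gen_nb 6 (by norm_num)).1
  have hbr := Fi23.braid_rel (p := (6, 9)) (by simp)
  have e : gT 9 = (gT 6 * gT 9) * gT 6 * (gT 6 * gT 9)⁻¹ := by
    rw [mul_inv_rev, inv_eq_of_mul_eq_one_right (Setup.gen_invol FT 6),
      inv_eq_of_mul_eq_one_right (Setup.gen_invol FT 9)]
    rw [pow_succ, pow_two] at hbr
    have h' : (gT 6 * gT 9 * gT 6 * (gT 9 * gT 6)) * gT 9 = 1 := by simpa [mul_assoc] using hbr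
    exact ((eq_inv_of_mul_eq_one_left h').trans
      (inv_eq_of_mul_eq_one_right (Setup.gen_invol FT 9))).symm
  rw [e]; exact D23_group.2.1 _ _ h6

theorem nine_not_commute : ¬ Commute Fi23.z (gT 9) := by
  intro h
  refine Fi23.z_ne_one (Fi23.kill (MonoidHom.id GT) Function.surjective_id (fun g => ?_) Fi23.z)
  show Fi23.z * g = g * Fi23.z
  have hg : g ∈ Subgroup.closure (gT '' {x | x < 10}) := Setup.closure_gen FT ▸ Subgroup.mem_top g
  induction hg using Subgroup.closure_induction with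
  | mem y hy =>
    obtain ⟨x, hx, rfl⟩ := hy
    rcases Nat.lt_or_ge x 9 with h9 | h9
    · exact Fi23.z_comm x h9
    · obtain rfl : x = 9 := by simp only [Set.mem_ofPred_eq] at hx; omega
      exact h.eq
  | one => simp
  | mul a b _ _ ha hb => rw [← mul_assoc, ha, mul_assoc, hb, mul_assoc]
  | inv a _ ha => exact (Commute.inv_right (show Commute Fi23.z a from ha)).eq

theorem gens_commute : (om7Gens.all fun i =>
    wordFixPts Fi23A.P 31671 Fi23.pts [i, 9, i, 9]) = true := by decide +kernel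

theorem gen_comm_nine {i : ℕ} (hi : i ∈ om7Gens) : Commute (gT i) (gT 9) := by
  have h := Fi23.word_one (List.all_eq_true.1 gens_commute i hi)
  simp only [wprod, List.map_cons, List.map_nil, List.prod_cons, List.prod_nil, mul_one] at h
  exact (Fischer.commute_iff_sq_eq_one (Setup.gen_invol FT i) (Setup.gen_invol FT 9)).2
    (by rw [pow_two, mul_assoc]; exact h)

theorem mem_C1 {g : GT} : g ∈ C1 ↔ Commute g Fi23.z ∧ Commute g (gT 9) := by
  rw [C1, Subgroup.mem_centralizer_iff]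
  exact ⟨fun h => ⟨(h _ (Or.inl rfl)).symm, (h _ (Or.inr rfl)).symm⟩, by
    rintro ⟨h1, h2⟩ y (rfl | rfl)
    · exact h1.symm.eq
    · exact h2.symm.eq⟩

theorem K1_le : K1 ≤ C1 := by
  rw [K1, Subgroup.closure_le]
  rintro _ ⟨i, hi, rfl⟩
  exact mem_C1.2 ⟨(Fi23.z_comm i (om7Gens_lt i hi)).symm, gen_comm_nine hi⟩

theorem C1_le : C1 ≤ Fi23.K := fun _ hg =>
  Fi23.centralizer_z.le (Subgroup.mem_centralizer_singleton_iff.2 (mem_C1.1 hg).1.eq)

/-- The map of the presented Omega(7, 3) into Fi23. -/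
def omEmb : List ℕ := [5, 4, 3, 2, 1, 0, 7, 8]

theorem omEmb_rels : (ChainO73.base.all fun w =>
    wordFixPts Fi23A.P 31671 Fi23.pts (w.map fun x => omEmb.getD x 0)) = true := by decide +kernel

theorem K1_iso : Nat.card K1 = 4585351680 ∧ Nonempty (K1 ≃* Cfsg.POmega (ZMod 3) (Cfsg.quadFormOdd 3 (ZMod 3))) := by
  obtain ⟨ψ, hψ⟩ := O73.setup.exists_hom (fun x => gT (omEmb.getD x 0))
    (fun x => Setup.gen_invol FT _) (fun w hw => by
      have h := Fi23.word_one (List.all_eq_true.1 omEmb_rels w hw)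
      rw [wprod, List.map_map] at h
      exact h)
  have hr : ψ.range = K1 := by
    rw [MonoidHom.range_eq_map, ← O73.setup.closure_gen, MonoidHom.map_closure, ← Set.image_comp, K1]
    refine congrArg Subgroup.closure (Set.ext fun y => ⟨?_, ?_⟩)
    · rintro ⟨x, hx, rfl⟩
      refine ⟨omEmb.getD x 0, ?_, (hψ x hx).symm⟩
      have hx' : x < 8 := hx
      interval_cases x <;> simp [omEmb, om7Gens]
    · rintro ⟨i, hi, rfl⟩
      simp only [om7Gens, Set.mem_ofPred_eq, List.mem_cons, List.not_mem_nil, or_false] at hi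
      have key : ∀ x < 8, ψ (O73.setup.gen x) = gT (omEmb.getD x 0) := hψ
      rcases hi with rfl | rfl | rfl | rfl | rfl | rfl | rfl | rfl
      · exact ⟨5, show (5 : ℕ) < 8 by norm_num, key 5 (by norm_num)⟩
      · exact ⟨4, show (4 : ℕ) < 8 by norm_num, key 4 (by norm_num)⟩
      · exact ⟨3, show (3 : ℕ) < 8 by norm_num, key 3 (by norm_num)⟩
      · exact ⟨2, show (2 : ℕ) < 8 by norm_num, key 2 (by norm_num)⟩
      · exact ⟨1, show (1 : ℕ) < 8 by norm_num, key 1 (by norm_num)⟩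
      · exact ⟨0, show (0 : ℕ) < 8 by norm_num, key 0 (by norm_num)⟩
      · exact ⟨6, show (6 : ℕ) < 8 by norm_num, key 6 (by norm_num)⟩
      · exact ⟨7, show (7 : ℕ) < 8 by norm_num, key 7 (by norm_num)⟩
  have hfin := O73.order_facts.1
  obtain ⟨ι⟩ := O73.nonempty_iso
  have hsimp : IsSimpleGroup O73.setup.G := by
    have h := Cfsg.Agent.Orth.pomega_congr (Cfsg.Agent.Orth.qOdd_nondeg (F := ZMod 3) (by decide) 3)
      (show 7 ≤ Fintype.card (Unit ⊕ (Fin 3 ⊕ Fin 3)) by simp)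
    rw [Cfsg.Agent.Orth.coe_qOdd] at h
    exact ι.isSimpleGroup_congr.2 h
  have hinj : Function.Injective ψ := by
    rw [← MonoidHom.ker_eq_bot_iff]
    refine (Subgroup.Normal.eq_bot_or_eq_top inferInstance).resolve_right fun h => ?_
    have h1 : ψ (O73.setup.gen 0) = 1 := MonoidHom.mem_ker.1 (h ▸ Subgroup.mem_top _)
    rw [hψ 0 (show (0 : ℕ) < 8 by norm_num)] at h1
    exact Fischer.TSet.ne_one D23_group.1 (gen_nb 5 (by norm_num)).1 h1
  obtain ⟨e⟩ : Nonempty (O73.setup.G ≃* K1) :=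
    ⟨(MonoidHom.ofInjective hinj).trans (MulEquiv.subgroupCongr hr)⟩
  exact ⟨by rw [← Nat.card_congr e.toEquiv, O73.order_facts.2.1], ⟨e.symm.trans ι⟩⟩

/-- A word carrying z to the last generator. -/
def nineW : List ℕ := [6, 9, 5, 6, 4, 5, 3, 4, 2, 3, 1, 2, 0, 1] ++ Fi23.uW.reverse

theorem nineW_ok : wordFixPts Fi23A.P 31671 Fi23.pts (nineW ++ Fi23.zW ++ nineW.reverse ++ [9]) = true ∧
    Nat.beq (tact Fi23A.P nineW.reverse 0) 29146 = true ∧ (nineW.all fun x => Nat.blt x 10) = true := by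
  decide +kernel

theorem tr_nine : tr ⟨29146, by norm_num⟩ = gT 9 := by
  obtain ⟨h1, h2, h3⟩ := nineW_ok
  have e : Out23.hm (wprod gT nineW) (0 : Fin 31671) = ⟨29146, by norm_num⟩ :=
    Fin.ext ((hom_word h3 _).trans (show tact Fi23A.P nineW.reverse 0 = 29146 from Nat.eq_of_beq_eq_true h2))
  rw [tr_eq e]
  have h := Fi23.word_one h1
  rw [wprod_append, wprod_append, wprod_append, wprod_reverse (Setup.gen_invol FT), mul_eq_one_iff_eq_inv] at h
  refine Eq.trans h ?_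
  simp only [wprod, List.map_cons, List.map_nil, List.prod_cons, List.prod_nil, mul_one]
  exact inv_eq_of_mul_eq_one_right (Setup.gen_invol FT 9)

theorem nine_bit : bit (orbitBits Fi23A.P Fi23A.sw 1 Fi23A.orb2) 29146 = true := by decide +kernel

theorem he (g : GT) (q : GT ⧸ Fi23.K) : eqv (g • q) = Out23.hm g (eqv q) := by
  induction q using QuotientGroup.induction_on with | _ k => ?_
  rw [show g • (k : GT ⧸ Fi23.K) = ((g * k : GT) : GT ⧸ Fi23.K) from rfl, eqv_mk, eqv_mk, hom_mul_apply]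

theorem C1_eq : C1 = K1 := by
  haveI := Fi23.order_facts.1
  obtain ⟨g, hg⟩ := Out23.exists_hom_zero (⟨29146, by norm_num⟩ : Fin 31671)
  have hgz : g * Fi23.z * g⁻¹ = gT 9 := (tr_eq hg).symm.trans tr_nine
  obtain ⟨q, hq, hsz, hbits⟩ := orbit_spec (H := Fi23.K) (Setup.gen_invol FT) Fi23.K_eq (Setup.hom_gen FT)
    he Fi23A.orb2_ok
  have hmem : ((g : GT ⧸ Fi23.K)) ∈ MulAction.orbit Fi23.K q := (hbits _).2
    ((congrArg (fun c : Fin 31671 => bit (orbitBits Fi23A.P Fi23A.sw 1 Fi23A.orb2) c.val)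
      ((eqv_mk g).trans hg)).trans nine_bit)
  have hidx : (MulAction.stabilizer Fi23.K ((g : GT ⧸ Fi23.K))).index = 28160 := by
    rw [MulAction.index_stabilizer, MulAction.orbit_eq_iff.2 hmem, hsz]
  have hst : MulAction.stabilizer Fi23.K ((g : GT ⧸ Fi23.K)) = C1.subgroupOf Fi23.K := by
    ext k
    rw [MulAction.mem_stabilizer_iff, Subgroup.mem_subgroupOf, mem_C1, ← hgz]
    have hk : Commute (k : GT) Fi23.z :=
      Subgroup.mem_centralizer_singleton_iff.1 (Fi23.centralizer_z.ge k.2)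
    rw [show k • (g : GT ⧸ Fi23.K) = (((k : GT) * g : GT) : GT ⧸ Fi23.K) from rfl, eq_comm, QuotientGroup.eq,
      SetLike.ext_iff.1 Fi23.centralizer_z.symm (g⁻¹ * ((k : GT) * g)), Subgroup.mem_centralizer_singleton_iff]
    constructor
    · intro h
      refine ⟨hk, ?_⟩
      have := ((show Commute (g⁻¹ * ((k : GT) * g)) Fi23.z from h).map (MulAut.conj g).toMonoidHom)
      simpa [mul_assoc] using this
    · rintro ⟨-, h⟩
      have := h.map (MulAut.conj g⁻¹).toMonoidHom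
      simpa [mul_assoc, Commute, SemiconjBy] using this
  have hc := Subgroup.card_mul_index (MulAction.stabilizer Fi23.K ((g : GT ⧸ Fi23.K)))
  rw [hidx, hst, Nat.card_congr (Subgroup.subgroupOfEquivOfLe C1_le).toEquiv, Fi23.card_K] at hc
  refine (Subgroup.eq_of_le_of_card_ge K1_le ?_).symm
  rw [K1_iso.1]
  omega

theorem cover (q : GT ⧸ Fi23.K) : ∀ u v : GT, u * Fi23.z * u⁻¹ = gT 0 → v * Fi23.z * v⁻¹ = gT 9 →
    q = ((1 : GT) : GT ⧸ Fi23.K) ∨ q ∈ MulAction.orbit Fi23.K (u : GT ⧸ Fi23.K) ∨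
      q ∈ MulAction.orbit Fi23.K (v : GT ⧸ Fi23.K) := by
  intro u v hu hv
  obtain ⟨-, e, q₁, q₂, -, -, -, -, -, hcov⟩ := Fi23.exists_frame
  have hone : ∀ w : GT, ((w : GT ⧸ Fi23.K)) = ((1 : GT) : GT ⧸ Fi23.K) → w * Fi23.z * w⁻¹ = Fi23.z := by
    intro w h
    have hw : w ∈ Fi23.K := by simpa using inv_mem (QuotientGroup.eq.1 h)
    rw [Subgroup.mem_centralizer_singleton_iff.1 (Fi23.centralizer_z.ge hw), mul_inv_cancel_right]
  have hu1 : (u : GT ⧸ Fi23.K) ≠ ((1 : GT) : GT ⧸ Fi23.K) := fun h =>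
    (gen_nb 0 (by norm_num)).2.1 (hu.symm.trans (hone u h))
  have hv1 : (v : GT ⧸ Fi23.K) ≠ ((1 : GT) : GT ⧸ Fi23.K) := fun h =>
    nine_not_commute ((hone v h) ▸ hv.symm ▸ Commute.refl _)
  have hsep : (v : GT ⧸ Fi23.K) ∉ MulAction.orbit Fi23.K (u : GT ⧸ Fi23.K) := by
    rintro ⟨k, hk⟩
    refine nine_not_commute ?_
    have hk' : ((k : GT) * u)⁻¹ * v ∈ Fi23.K := QuotientGroup.eq.1 hk
    have h1 : v * Fi23.z * v⁻¹ = (k : GT) * (u * Fi23.z * u⁻¹) * (k : GT)⁻¹ := by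
      have h2 := (Subgroup.mem_centralizer_singleton_iff.1 (Fi23.centralizer_z.ge hk'))
      calc v * Fi23.z * v⁻¹ = ((k : GT) * u) * ((((k : GT) * u)⁻¹ * v) * Fi23.z) * v⁻¹ := by group
        _ = _ := by rw [h2]; group
    have hkz := Subgroup.mem_centralizer_singleton_iff.1 (Fi23.centralizer_z.ge k.2)
    rw [← hv, h1, hu]
    have h3 : Commute ((k : GT) * Fi23.z * (k : GT)⁻¹) ((k : GT) * gT 0 * (k : GT)⁻¹) :=
      (show Commute Fi23.z (gT 0) from z_comm_a).map (MulAut.conj (k : GT)).toMonoidHom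
    rwa [hkz, mul_inv_cancel_right] at h3
  have ou := (hcov (u : GT ⧸ Fi23.K)).resolve_left hu1
  have ov := (hcov (v : GT ⧸ Fi23.K)).resolve_left hv1
  have same : ∀ {x y r : GT ⧸ Fi23.K}, x ∈ MulAction.orbit Fi23.K r → y ∈ MulAction.orbit Fi23.K r →
      y ∈ MulAction.orbit Fi23.K x := fun hx hy => (MulAction.orbit_eq_iff.2 hx).symm ▸ hy
  rcases hcov q with h | h
  · exact Or.inl h
  refine Or.inr ?_
  rcases ou with ou | ou <;> rcases ov with ov | ov
  · exact absurd (same ou ov) hsep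
  · exact h.imp (same ou) (same ov)
  · exact h.symm.imp (same ou) (same ov)
  · exact absurd (same ou ov) hsep

theorem exists_uv : ∃ u v : GT, u * Fi23.z * u⁻¹ = gT 0 ∧ v * Fi23.z * v⁻¹ = gT 9 := by
  obtain ⟨u, hu⟩ := Fi23.mem_D.1 (gen_nb 0 (by norm_num)).1
  obtain ⟨v, hv⟩ := Fi23.mem_D.1 gT_nine_mem
  exact ⟨u, v, hu, hv⟩

/-- A transposition either is z, or is conjugate under its centraliser to one of the two generators. -/
theorem D23_cases {y : GT} (hy : y ∈ Fi23.D) : y = Fi23.z ∨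
    (∃ k ∈ Fi23.K, k * gT 0 * k⁻¹ = y) ∨ ∃ k ∈ Fi23.K, k * gT 9 * k⁻¹ = y := by
  obtain ⟨w, rfl⟩ := Fi23.mem_D.1 hy
  obtain ⟨u, v, hu, hv⟩ := exists_uv
  have key : ∀ c : GT, (w : GT ⧸ Fi23.K) ∈ MulAction.orbit Fi23.K (c : GT ⧸ Fi23.K) →
      ∃ k ∈ Fi23.K, k * (c * Fi23.z * c⁻¹) * k⁻¹ = w * Fi23.z * w⁻¹ := by
    rintro c ⟨k, hk⟩
    refine ⟨(k : GT), k.2, ?_⟩
    have hk' : ((k : GT) * c)⁻¹ * w ∈ Fi23.K := QuotientGroup.eq.1 hk
    have h2 := (Subgroup.mem_centralizer_singleton_iff.1 (Fi23.centralizer_z.ge hk'))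
    symm
    calc w * Fi23.z * w⁻¹ = ((k : GT) * c) * ((((k : GT) * c)⁻¹ * w) * Fi23.z) * w⁻¹ := by group
      _ = _ := by rw [h2]; group
  rcases cover (w : GT ⧸ Fi23.K) u v hu hv with h | h | h
  · left
    have hw : w ∈ Fi23.K := by simpa using inv_mem (QuotientGroup.eq.1 h)
    rw [Subgroup.mem_centralizer_singleton_iff.1 (Fi23.centralizer_z.ge hw), mul_inv_cancel_right]
  · exact Or.inr (Or.inl (hu ▸ key u h))
  · exact Or.inr (Or.inr (hv ▸ key v h))

theorem fixed_ok : allBelow (fun p => Nat.beq p 0 || Nat.beq p 1 || Nat.beq p 29146 ||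
    om7Gens.any fun i => !Nat.beq (Fi23A.P.T.get (p * 10 + i)) p) 31671 = true := by decide +kernel

theorem third_ok : Nat.beq (Fi23A.P.T.get 9) 1 = true := by decide +kernel

/-- A transposition commuting with the generators of the subgroup is one of three. -/
theorem centralizes_K1 {y : GT} (hy : y ∈ Fi23.D) (hc : ∀ i ∈ om7Gens, Commute (gT i) y) :
    y = Fi23.z ∨ y = gT 9 ∨ y = gT 9 * Fi23.z * gT 9 := by
  obtain ⟨⟨p, hp⟩, rfl⟩ := exists_tr hy
  have h := allBelow_spec fixed_ok hp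
  simp only [Bool.or_eq_true, Nat.beq_eq, List.any_eq_true, Bool.not_eq_true', or_assoc] at h
  rcases h with h | h | h | ⟨i, hi, hne⟩
  · exact Or.inl (h ▸ tr_zero)
  · subst h
    refine Or.inr (Or.inr ?_)
    rw [tr_eq (g := gT 9) (Fin.ext ((hom_gen_val (by norm_num) _).trans (Nat.eq_of_beq_eq_true third_ok))),
      inv_eq_of_mul_eq_one_right (Setup.gen_invol FT 9)]
  · subst h; exact Or.inr (Or.inl tr_nine)
  · have hf := (fix_iff (gT i) ⟨p, hp⟩).2 (hc i hi)
    have := (hom_gen_val (show i < 10 by have := om7Gens_lt i hi; omega) ⟨p, hp⟩).symm.trans (congrArg Fin.val hf)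
    exact absurd this (Nat.ne_of_beq_eq_false hne)

section abstract

variable {G : Type*} [Group G] {D : Set G} {a d : G}

/-- A transposition inverting the product commutes with every transposition centralising it. -/
theorem commute_of_inverts (hD : Cfsg.IsThreeTranspositionGroup D) {x y e : G} (hx3 : x ^ 3 = 1) (hx1 : x ≠ 1)
    (hy : y ∈ D) (hinv : y * x * y = x⁻¹) (he : e ∈ D) (hce : Commute e x) : Commute y e := by
  by_contra h
  have hy2 := Fischer.TSet.sq hD.1 hy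
  have he2 := Fischer.TSet.sq hD.1 he
  have h3 := Fischer.TSet.cube hD.1 hy he h
  have hbr : y * e * y = e * y * e := by
    rw [pow_succ, pow_two] at h3
    have h4 : (y * e * y) * (e * y * e) = 1 := by simpa [mul_assoc] using h3
    rw [eq_inv_of_mul_eq_one_left h4]
    simp [mul_assoc, inv_eq_of_mul_eq_one_right hy2, inv_eq_of_mul_eq_one_right he2]
  have hc' : Commute (y * e * y) x := by
    have h1 : Commute (MulAut.conj y e) (MulAut.conj y x) := hce.map (MulAut.conj y).toMonoidHom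
    simp only [MulAut.conj_apply, inv_eq_of_mul_eq_one_right hy2, hinv] at h1
    simpa using h1.inv_right
  have hyx : Commute y x := by
    have : y = e * (y * e * y) * e := by
      rw [hbr]; simp only [← mul_assoc, he2, one_mul]; simp only [mul_assoc, he2, mul_one]
    rw [this]
    exact (hce.mul_left hc').mul_left hce
  have h5 : x = x⁻¹ := by rw [← hinv, hyx.eq, mul_assoc, hy2, mul_one]
  have h6 : x * x = 1 := by nth_rewrite 2 [h5]; rw [mul_inv_cancel]
  rw [pow_succ, pow_two, h6, one_mul] at hx3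
  exact hx1 hx3

theorem product_facts (hD : Cfsg.IsThreeTranspositionGroup D) (ha : a ∈ D) (hd : d ∈ D) (h : ¬ Commute a d) :
    (a * d) ^ 3 = 1 ∧ a * d ≠ 1 ∧ a * d * a = d * a * d ∧ a * (a * d) * a = (a * d)⁻¹ ∧
      d * (a * d) * d = (a * d)⁻¹ ∧ (a * d * a) * (a * d) * (a * d * a) = (a * d)⁻¹ := by
  have a2 := Fischer.TSet.sq hD.1 ha
  have d2 := Fischer.TSet.sq hD.1 hd
  have h3 := Fischer.TSet.cube hD.1 ha hd h
  have hi : (a * d)⁻¹ = d * a := by
    rw [mul_inv_rev, inv_eq_of_mul_eq_one_right a2, inv_eq_of_mul_eq_one_right d2]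
  have hbr : a * d * a = d * a * d := by
    have h4 : (a * d * a) * (d * a * d) = 1 := by rw [pow_succ, pow_two] at h3; simpa [mul_assoc] using h3
    rw [eq_inv_of_mul_eq_one_left h4]
    simp [mul_assoc, inv_eq_of_mul_eq_one_right a2, inv_eq_of_mul_eq_one_right d2]
  refine ⟨h3, fun e => h (by rw [eq_inv_of_mul_eq_one_left e]; exact (Commute.refl d).inv_left), hbr, ?_, ?_, ?_⟩
  · rw [hi]; simp only [← mul_assoc, a2, one_mul]
  · rw [hi]; simp only [mul_assoc, d2, mul_one]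
  · rw [hi]
    simp only [mul_assoc]
    rw [← mul_assoc a a, a2, one_mul, ← mul_assoc d d, d2, one_mul, ← mul_assoc a a, a2, one_mul]

/-- If only three transpositions invert the product, those centralising it commute with both. -/
theorem commute_both_of_central (hD : Cfsg.IsThreeTranspositionGroup D) (ha : a ∈ D) (hd : d ∈ D)
    (h : ¬ Commute a d) (hT : ∀ y ∈ D, y * (a * d) * y = (a * d)⁻¹ → y = a ∨ y = d ∨ y = a * d * a)
    {y : G} (hy : y ∈ D) (hc : Commute y (a * d)) : Commute a y ∧ Commute d y := by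
  obtain ⟨h3, h1, hbr, ia, id, ic⟩ := product_facts hD ha hd h
  have key : ∀ e ∈ D, e * (a * d) * e = (a * d)⁻¹ → Commute e y := fun e he hinv =>
    commute_of_inverts hD h3 h1 he hinv hy hc
  exact ⟨key a ha ia, key d hd id⟩

end abstract

theorem inverts_three {y : GT} (hy : y ∈ Fi23.D) (hinv : y * (Fi23.z * gT 9) * y = (Fi23.z * gT 9)⁻¹) :
    y = Fi23.z ∨ y = gT 9 ∨ y = Fi23.z * gT 9 * Fi23.z := by
  obtain ⟨h3, h1, hbr, -, -, -⟩ := product_facts D23_group z23_mem gT_nine_mem nine_not_commute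
  have hc : ∀ i ∈ om7Gens, Commute (gT i) y := fun i hi =>
    (commute_of_inverts D23_group h3 h1 hy hinv (gen_nb i (om7Gens_lt i hi)).1
      (Commute.mul_right (show Commute (gT i) Fi23.z from (Fi23.z_comm i (om7Gens_lt i hi)).symm) (gen_comm_nine hi))).symm
  rw [hbr]
  exact centralizes_K1 hy hc

theorem gen0_conj_not_mem {k : GT} (hk : k ∈ Fi23.K) : k * gT 0 * k⁻¹ * Fi23.z ∉ Fi23.D := by
  intro h
  have hkz := Subgroup.mem_centralizer_singleton_iff.1 (Fi23.centralizer_z.ge hk)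
  refine za_not_mem ?_
  have := D23_group.2.1 k⁻¹ _ h
  have e : k⁻¹ * (k * gT 0 * k⁻¹ * Fi23.z) * k⁻¹⁻¹ = gT 0 * (k⁻¹ * (Fi23.z * k)) := by group
  rwa [e, ← hkz, inv_mul_cancel_left] at this

theorem exists_lift {π : Fi23.K →* GG} (hgen : ∀ x < 9, π (Fi23.gK x) = gn x) {i : ℕ} (hi : i < om7Pts.length) :
    ∃ y : Fi23.K, (y : GT) ∈ Fi23.D ∧ (y : GT) ∈ K1 ∧ π y = trN (om7At i) := by
  induction i using Nat.strong_induction_on with | _ i ih => ?_
  have h := allBelow_spec om7_growth hi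
  simp only [Bool.or_eq_true, Bool.and_eq_true, Nat.beq_eq, Nat.blt_eq, List.contains_iff_mem] at h
  rcases h with rfl | ⟨⟨h1, h2⟩, h3⟩
  · refine ⟨Fi23.gK 0, ?_, ?_, ?_⟩ <;> try rw [Fi23.gK_coe (by norm_num)]
    · exact (gen_nb 0 (by norm_num)).1
    · exact Subgroup.subset_closure ⟨0, List.mem_cons_self, rfl⟩
    · rw [hgen 0 (by norm_num), om7_first, trN_zero_gn]
  · obtain ⟨y, hy1, hy2, hy3⟩ := ih _ h1 (h1.trans hi)
    have hx := om7Gens_lt _ h2
    obtain ⟨x, hxe⟩ : ∃ x, x = (om7Pts.getD i (0, 0, 0)).2.2 := ⟨_, rfl⟩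
    rw [← hxe] at h2 hx h3
    refine ⟨Fi23.gK x * y * (Fi23.gK x)⁻¹, ?_, ?_, ?_⟩
    · rw [Subgroup.coe_mul, Subgroup.coe_mul, Subgroup.coe_inv]
      exact D23_group.2.1 _ _ hy1
    · rw [Subgroup.coe_mul, Subgroup.coe_mul, Subgroup.coe_inv, Fi23.gK_coe hx]
      exact mul_mem (mul_mem (Subgroup.subset_closure ⟨_, h2, rfl⟩) hy2)
        (inv_mem (Subgroup.subset_closure ⟨_, h2, rfl⟩))
    · rw [map_mul, map_mul, map_inv, hgen _ hx, hy3, ← trN_apt _ (om7At_lt (h1.trans hi)),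
        apt_gn hx (om7At_lt (h1.trans hi)), h3]
      rfl

/-- The commuting width of the transpositions centralising both is seven. -/
theorem width_seven : Cfsg.commutingWidth (Fi23.D ∩ (C1 : Set GT)) = 7 := by
  classical
  haveI := Fi23.order_facts.1
  obtain ⟨π, hπ, hgen, hker⟩ := exists_pi
  have hM : ∀ y : Fi23.K, (y : GT) ∈ K1 → π y ∈ M22om := by
    rintro ⟨y, hy'⟩ hy
    have key : ∀ v ∈ K1, ∃ hv : v ∈ Fi23.K, π ⟨v, hv⟩ ∈ M22om := by
      intro v hv
      induction hv using Subgroup.closure_induction with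
      | mem w hw =>
        obtain ⟨i, hi, rfl⟩ := hw
        refine ⟨Fi23.gen_mem (om7Gens_lt i hi), ?_⟩
        rw [show (⟨gT i, Fi23.gen_mem (om7Gens_lt i hi)⟩ : Fi23.K) = Fi23.gK i from
          Subtype.ext (Fi23.gK_coe (om7Gens_lt i hi)).symm, hgen i (om7Gens_lt i hi)]
        exact Subgroup.subset_closure ⟨i, hi, rfl⟩
      | one => exact ⟨one_mem _, by rw [show (⟨1, one_mem _⟩ : Fi23.K) = 1 from rfl, map_one]; exact one_mem _⟩
      | mul a b _ _ ha hb =>
        obtain ⟨ha, ha'⟩ := ha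
        obtain ⟨hb, hb'⟩ := hb
        refine ⟨mul_mem ha hb, ?_⟩
        rw [show (⟨a * b, mul_mem ha hb⟩ : Fi23.K) = ⟨a, ha⟩ * ⟨b, hb⟩ from rfl, map_mul]
        exact mul_mem ha' hb'
      | inv a _ ha =>
        obtain ⟨ha, ha'⟩ := ha
        refine ⟨inv_mem ha, ?_⟩
        rw [show (⟨a⁻¹, inv_mem ha⟩ : Fi23.K) = ⟨a, ha⟩⁻¹ from rfl, map_inv]
        exact inv_mem ha'
    exact (key y hy).2
  have hinjK : ∀ y y' : Fi23.K, (∃ k ∈ Fi23.K, k * gT 0 * k⁻¹ = (y' : GT)) → (y : GT) ∈ Fi23.D → π y = π y' →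
      y = y' := by
    rintro y y' ⟨k, hk, hk'⟩ hy e
    have h1 : π (y'⁻¹ * y) = 1 := by rw [map_mul, map_inv, e, inv_mul_cancel]
    rcases (hker _).1 h1 with h | h
    · exact (inv_mul_eq_one.1 h).symm
    · refine absurd ?_ (gen0_conj_not_mem hk)
      rw [inv_mul_eq_iff_eq_mul] at h
      rw [hk', show (y' : GT) * Fi23.z = ((y' * Fi23.zK : Fi23.K) : GT) from rfl, ← h]
      exact hy
  have hclass : ∀ y ∈ Fi23.D ∩ (C1 : Set GT), ∃ k ∈ Fi23.K, k * gT 0 * k⁻¹ = y := by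
    rintro y ⟨hy, hyc⟩
    obtain ⟨h1, h2⟩ := mem_C1.1 hyc
    rcases D23_cases hy with rfl | h | ⟨k, hk, rfl⟩
    · exact absurd h2 nine_not_commute
    · exact h
    · refine absurd ?_ nine_not_commute
      have hkz := Subgroup.mem_centralizer_singleton_iff.1 (Fi23.centralizer_z.ge hk)
      have h3 := h1.symm.map (MulAut.conj k⁻¹).toMonoidHom
      have e1 : MulAut.conj k⁻¹ Fi23.z = Fi23.z := by
        rw [MulAut.conj_apply, inv_inv, mul_assoc, ← hkz, inv_mul_cancel_left]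
      have e2 : MulAut.conj k⁻¹ (k * gT 9 * k⁻¹) = gT 9 := by simp [mul_assoc]
      have h4 : Commute (MulAut.conj k⁻¹ Fi23.z) (MulAut.conj k⁻¹ (k * gT 9 * k⁻¹)) := h3
      rwa [e1, e2] at h4
  refine le_antisymm (csSup_le ⟨0, ∅, Set.empty_subset _, Set.finite_empty, fun _ h => absurd h
    (Set.notMem_empty _), Set.ncard_empty _⟩ ?_) ?_
  · rintro n ⟨E, hE, hfin, hc, rfl⟩
    have hex : ∀ y ∈ E, ∃ p, p < 3510 ∧ bit om7Mask p = true ∧ ∃ hy : y ∈ Fi23.K, π ⟨y, hy⟩ = trN p := by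
      intro y hy
      obtain ⟨k, hk, hk'⟩ := hclass y (hE hy)
      have hyK := C1_le (hE hy).2
      have e : π ⟨y, hyK⟩ = π ⟨k, hk⟩ * gn 0 * (π ⟨k, hk⟩)⁻¹ := by
        rw [← hgen 0 (by norm_num), ← map_inv, ← map_mul, ← map_mul]
        refine congrArg π (Subtype.ext ?_)
        simp [Fi23.gK_coe, hk']
      obtain ⟨p, hp, hpe⟩ := exists_trN (d := π ⟨y, hyK⟩) (by
        rw [e]; exact Fi22Class.mem_D.2 ⟨_, rfl⟩)
      refine ⟨p, hp, (mem_M22om_iff hp).1 ?_, hyK, hpe.symm⟩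
      rw [hpe]
      exact hM _ (C1_eq ▸ (hE hy).2)
    choose! f hf1 hf2 hf3 hf4 using hex
    have hinj : Set.InjOn f E := fun y hy y' hy' e => by
      have h := hinjK ⟨y, hf3 y hy⟩ ⟨y', hf3 y' hy'⟩ (hclass y' (hE hy')) (hE hy).1 (by
        rw [hf4 y hy, hf4 y' hy', e])
      exact congrArg Subtype.val h
    rw [← Set.InjOn.ncard_image hinj, Set.ncard_eq_toFinset_card _ (hfin.image f)]
    refine om7_clique (fun p hp => ?_) fun p hp q hq => ?_
    · obtain ⟨y, hy, rfl⟩ := (Set.Finite.mem_toFinset _).1 hp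
      exact ⟨hf1 y hy, hf2 y hy⟩
    · obtain ⟨y, hy, rfl⟩ := (Set.Finite.mem_toFinset _).1 hp
      obtain ⟨y', hy', rfl⟩ := (Set.Finite.mem_toFinset _).1 hq
      rw [tapp_self_iff (hf1 y hy) (hf1 y' hy'), ← hf4 y hy, ← hf4 y' hy']
      exact (show Commute (⟨y, hf3 y hy⟩ : Fi23.K) ⟨y', hf3 y' hy'⟩ from
        Subtype.ext (hc y hy y' hy').eq).map π
  · have h7 := om7_seven
    simp only [List.all_eq_true, Bool.and_eq_true, Nat.blt_eq, Nat.beq_eq] at h7
    have hex : ∀ p ∈ om7Seven, ∃ y : Fi23.K, ((y : GT) ∈ Fi23.D ∩ (C1 : Set GT)) ∧ π y = trN p := by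
      intro p hp
      obtain ⟨i, hi, rfl⟩ := (mask_iff (h7 p hp).1.2).1 (h7 p hp).1.1
      obtain ⟨y, h1, h2, h3⟩ := exists_lift hgen hi
      exact ⟨y, ⟨h1, C1_eq ▸ h2⟩, h3⟩
    choose! f hf1 hf2 using hex
    have hcomm : ∀ p ∈ om7Seven, ∀ q ∈ om7Seven, Commute (f p : GT) (f q) := by
      intro p hp q hq
      have hpq : Commute (trN p) (trN q) := (tapp_self_iff (h7 p hp).1.2 (h7 q hq).1.2).1 ((h7 p hp).2 q hq)
      have hh : π (f p * f q * (f p)⁻¹) = π (f q) := by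
        rw [map_mul, map_mul, map_inv, hf2 p hp, hf2 q hq, hpq.eq, mul_inv_cancel_right]
      have := hinjK (f p * f q * (f p)⁻¹) (f q) (hclass _ (hf1 q hq)) (by
        rw [Subgroup.coe_mul, Subgroup.coe_mul, Subgroup.coe_inv]
        exact D23_group.2.1 _ _ (hf1 q hq).1) hh
      exact mul_inv_eq_iff_eq_mul.1 (congrArg Subtype.val this)
    refine le_csSup ⟨(Set.univ : Set GT).ncard, ?_⟩ ⟨(fun p => (f p : GT)) '' {p | p ∈ om7Seven},
      ?_, Set.toFinite _, ?_, ?_⟩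
    · rintro n ⟨A, -, -, -, rfl⟩
      exact Set.ncard_le_ncard (Set.subset_univ _) (Set.toFinite _)
    · rintro _ ⟨p, hp, rfl⟩; exact hf1 p hp
    · rintro _ ⟨p, hp, rfl⟩ _ ⟨q, hq, rfl⟩; exact hcomm p hp q hq
    · rw [Set.InjOn.ncard_image]
      · rw [show {p | p ∈ om7Seven} = (↑om7Seven.toFinset : Set ℕ) by ext; simp, Set.ncard_coe_finset]
        decide +kernel
      · intro p hp q hq e
        refine trN_inj (h7 p hp).1.2 (h7 q hq).1.2 ?_
        rw [← hf2 p hp, ← hf2 q hq, Subtype.coe_injective e]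

end Cfsg.Agent.FischerUnique23
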