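import Cfsg.Agent.Lib.FischerUnique23.Unique

/-!
Centralisers of transpositions in Fi23, their transport, and the width of groups of type M(23).
-/

set_option autoImplicit false
set_option maxRecDepth 100000

namespace Cfsg.Agent.FischerUnique23

open Cfsg.Agent.CosetCert
open Cfsg.Agent.Fischer.Factor
open Cfsg.Agent.FischerUnique
open Cfsg.Agent.Fi22Local
open Cfsg.Agent.FischerPresented

local notation "FT" => CosetData.Fi23A.setup

theorem D23_group : Cfsg.IsThreeTranspositionGroup Fi23.D := by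
  obtain ⟨h1, -, h3⟩ := Fi23.isClass
  refine ⟨h1, fun g d hd => ?_, h3⟩
  obtain ⟨k, rfl⟩ := Fi23.mem_D.1 hd
  exact Fi23.mem_D.2 ⟨g * k, by group⟩

theorem z_ne_gen : ∀ x < 9, Fi23.z ≠ Setup.gen FT x := by
  intro x hx e
  obtain ⟨ψ, hψ, hgen⟩ := Fi23.exists_hom_Fi22
  have hfin := Fi23.order_facts.1
  have hfin22 := Fi22.order_facts.1
  have hc := Subgroup.card_eq_card_quotient_mul_card_subgroup Fi23.Z
  rw [Fi23.card_K, Fi23.card_Z] at hc
  have hb : Function.Bijective ψ := (Nat.bijective_iff_surjective_and_card _).2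
    ⟨hψ, by rw [Fi22.order_facts.2.1]; omega⟩
  have h1 : ψ (gn x) = 1 := by
    rw [hgen x hx]
    refine (QuotientGroup.eq_one_iff _).2 ?_
    have : Fi23.gK x = Fi23.zK := Subtype.ext (by rw [Fi23.gK_coe hx]; exact e.symm)
    rw [this]
    exact Subgroup.mem_zpowers _
  obtain ⟨hlt, ht⟩ := Out22.tr_gpt hx
  have h2 : gn x = 1 := hb.1 (h1.trans (map_one ψ).symm)
  exact Fischer.TSet.ne_one D_group.1 (trN_mem hlt) ((trN_eq hlt).trans (ht.trans h2))

theorem z23_mem : Fi23.z ∈ Fi23.D := Fi23.mem_D.2 ⟨1, by group⟩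

theorem gen_nb : ∀ x < 9, Setup.gen FT x ∈ Nb Fi23.D Fi23.z := by
  intro x hx
  refine ⟨?_, (z_ne_gen x hx).symm, Fi23.z_comm x hx⟩
  have h0 : Setup.gen FT 0 ∈ Fi23.D := Fi23.mem_D.2 ⟨Fi23.U⁻¹, by rw [Fi23.z_eq]; group⟩
  have hbr : ∀ p ∈ Fi23.braid, Setup.gen FT p.1 ∈ Fi23.D → Setup.gen FT p.2 ∈ Fi23.D := by
    intro p hp h
    have h3 := Fi23.braid_rel (List.mem_append_left _ hp)
    have e : Setup.gen FT p.2 = (Setup.gen FT p.1 * Setup.gen FT p.2) * Setup.gen FT p.1 *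
        (Setup.gen FT p.1 * Setup.gen FT p.2)⁻¹ := by
      have i1 := inv_eq_of_mul_eq_one_right (Setup.gen_invol FT p.1)
      have i2 := inv_eq_of_mul_eq_one_right (Setup.gen_invol FT p.2)
      rw [pow_succ, pow_succ, pow_succ, pow_zero, one_mul] at h3
      calc Setup.gen FT p.2 = Setup.gen FT p.2 * 1 := (mul_one _).symm
        _ = Setup.gen FT p.2 * (Setup.gen FT p.1 * Setup.gen FT p.2 *
            (Setup.gen FT p.1 * Setup.gen FT p.2) * (Setup.gen FT p.1 * Setup.gen FT p.2))⁻¹ := by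
              rw [h3, inv_one]
        _ = _ := by
          simp only [mul_inv_rev, i1, i2, mul_assoc]
          rw [← mul_assoc (Setup.gen FT p.2) (Setup.gen FT p.2), Setup.gen_invol FT p.2, one_mul]
    rw [e]
    exact D23_group.2.1 _ _ h
  have h1 := hbr (0, 1) (by simp [Fi23.braid]) h0
  have h2 := hbr (1, 2) (by simp [Fi23.braid]) h1
  have h3 := hbr (2, 3) (by simp [Fi23.braid]) h2
  have h4 := hbr (3, 4) (by simp [Fi23.braid]) h3
  have h5 := hbr (4, 5) (by simp [Fi23.braid]) h4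
  have h6 := hbr (5, 6) (by simp [Fi23.braid]) h5
  have h7 := hbr (3, 7) (by simp [Fi23.braid]) h3
  have h8 := hbr (7, 8) (by simp [Fi23.braid]) h7
  interval_cases x <;> assumption

theorem closure_nb_z23 : Subgroup.closure (Nb Fi23.D Fi23.z) = Fi23.K := by
  refine le_antisymm ((Subgroup.closure_le _).2 fun y hy => ?_) ((Subgroup.closure_le _).2 ?_)
  · exact Fi23.centralizer_z.le (Subgroup.mem_centralizer_singleton_iff.2 hy.2.2.symm.eq)
  · rintro _ ⟨x, hx, rfl⟩
    exact Subgroup.subset_closure (gen_nb x hx)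

theorem quasisimple_K : Cfsg.IsQuasisimple Fi23.K := by
  refine ⟨⟨?_⟩, ?_⟩
  · by_contra h
    have hn : (commutator Fi23.K).Normal := inferInstance
    have hone := Fi23.kill_K (QuotientGroup.mk' (commutator Fi23.K)) (QuotientGroup.mk'_surjective _)
      (fun q => Std.Commutative.comm (op := fun a b : Abelianization Fi23.K => a * b) _ q)
    refine h (eq_top_iff.2 fun g _ => (QuotientGroup.eq_one_iff g).1 (hone (QuotientGroup.mk g)))
  · obtain ⟨e⟩ := Fi23.isNonsplitDoubleCover.2.1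
    exact e.isSimpleGroup_congr.2 Fi22.isSimpleGroup

theorem center_K_eq : Subgroup.center Fi23.K = (Subgroup.zpowers Fi23.z).subgroupOf Fi23.K := by
  rw [Fi23.center_K]
  ext x
  rw [Subgroup.mem_subgroupOf, Fi23.Z, Subgroup.mem_zpowers_iff, Subgroup.mem_zpowers_iff]
  exact exists_congr fun n => by rw [← SetLike.coe_eq_coe, SubgroupClass.coe_zpow]; rfl

universe u

variable {G : Type u} [Group G] [Finite G] {D : Set G}

/-- The centraliser of a transposition in a group of type M(23). -/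
theorem centralizer_facts (hT : Cfsg.IsThreeTranspositionGroup D) (hprim : Cfsg.IsPrimitiveUnderConj D)
    (ht : Cfsg.IsOfTypeM23 G D) {d : G} (hd : d ∈ D) :
    Subgroup.closure (Nb D d) = Subgroup.centralizer ({d} : Set G) ∧
      Cfsg.IsQuasisimple ↥(Subgroup.closure (Nb D d)) ∧
      Subgroup.center ↥(Subgroup.closure (Nb D d)) =
        (Subgroup.zpowers d).subgroupOf (Subgroup.closure (Nb D d)) := by
  obtain ⟨Φ, hΦ⟩ := exists_iso hT hprim ht
  obtain ⟨y, hy, rfl⟩ := hΦ.ge hd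
  obtain ⟨g, rfl⟩ := Fi23.mem_D.1 hy
  obtain ⟨T, hTd⟩ : ∃ T : Setup.G FT ≃* G, T = (MulAut.conj g).trans Φ := ⟨_, rfl⟩
  have hTz : T Fi23.z = Φ (g * Fi23.z * g⁻¹) := by rw [hTd]; rfl
  rw [← hTz] at hd ⊢
  have hTD : ∀ x, T x ∈ D ↔ x ∈ Fi23.D := fun x => by
    rw [← hΦ, hTd]
    show Φ (g * x * g⁻¹) ∈ Φ '' Fi23.D ↔ _
    rw [Set.mem_image]
    constructor
    · rintro ⟨w, hw, e⟩
      rw [Φ.injective e] at hw
      have := D23_group.2.1 g⁻¹ _ hw
      simpa [mul_assoc] using this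
    · intro hx
      exact ⟨_, D23_group.2.1 g x hx, rfl⟩
  have hNb : Nb D (T Fi23.z) = T '' Nb Fi23.D Fi23.z := by
    ext x
    obtain ⟨w, rfl⟩ := T.surjective x
    constructor
    · rintro ⟨h1, h2, h3⟩
      exact ⟨w, ⟨(hTD w).1 h1, fun e => h2 (by rw [e]), by simpa using h3.map T.symm.toMonoidHom⟩, rfl⟩
    · rintro ⟨v, ⟨h1, h2, h3⟩, e⟩
      rw [← e]
      exact ⟨(hTD v).2 h1, fun e => h2 (T.injective e), h3.map T.toMonoidHom⟩
  have hmap : Subgroup.closure (Nb D (T Fi23.z)) = Fi23.K.map T.toMonoidHom := by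
    rw [hNb, ← closure_nb_z23, MonoidHom.map_closure]; rfl
  obtain ⟨E, hE⟩ : ∃ E : Fi23.K ≃* ↥(Subgroup.closure (Nb D (T Fi23.z))), ∀ x : Fi23.K, (E x : G) = T x :=
    ⟨(MulEquiv.subgroupMap T Fi23.K).trans (MulEquiv.subgroupCongr hmap.symm), fun x => rfl⟩
  have hEc : (Subgroup.center Fi23.K).map E.toMonoidHom =
      Subgroup.center ↥(Subgroup.closure (Nb D (T Fi23.z))) := by
    ext x
    obtain ⟨w, rfl⟩ := E.surjective x
    rw [Subgroup.mem_center_iff]
    constructor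
    · rintro ⟨v, hv, e⟩ k
      rw [E.injective e] at hv
      obtain ⟨k, rfl⟩ := E.surjective k
      rw [← map_mul, ← map_mul, Subgroup.mem_center_iff.1 hv k]
    · intro h
      refine ⟨w, Subgroup.mem_center_iff.2 fun k => E.injective ?_, rfl⟩
      rw [map_mul, map_mul, h (E k)]
  refine ⟨?_, ?_, ?_⟩
  · rw [hmap, ← Fi23.centralizer_z]
    ext x
    obtain ⟨w, rfl⟩ := T.surjective x
    simp only [Subgroup.mem_map_equiv, T.symm_apply_apply, Subgroup.mem_centralizer_singleton_iff]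
    rw [← map_mul, ← map_mul, T.injective.eq_iff]
  · obtain ⟨h1, h2⟩ := quasisimple_K
    refine ⟨⟨?_⟩, ?_⟩
    · rw [← Subgroup.map_top_of_surjective E.toMonoidHom E.surjective, ← h1.commutator_eq_top,
        commutator_def, commutator_def, Subgroup.map_commutator,
        Subgroup.map_top_of_surjective E.toMonoidHom E.surjective]
    · exact (QuotientGroup.congr _ _ E hEc).isSimpleGroup_congr.1 h2
  · ext x
    obtain ⟨w, rfl⟩ := E.surjective x
    rw [← hEc, Subgroup.mem_map_equiv, E.symm_apply_apply, center_K_eq, Subgroup.mem_subgroupOf,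
      Subgroup.mem_subgroupOf, hE, Subgroup.mem_zpowers_iff, Subgroup.mem_zpowers_iff]
    exact exists_congr fun n => by rw [← map_zpow, T.injective.eq_iff]

/-- The width is twenty-three. -/
theorem width_eq (hT : Cfsg.IsThreeTranspositionGroup D) (hprim : Cfsg.IsPrimitiveUnderConj D)
    (ht : Cfsg.IsOfTypeM23 G D) : Cfsg.commutingWidth D = 23 := by
  classical
  haveI := Fi22.order_facts.1
  obtain ⟨hLab, hV, -, -⟩ := exists_lab hT hprim ht
  have hw := FischerUnique.width_eq D_group hV ⟨_, z_mem⟩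
  have hbd : ∀ {H : Type u} [Group H] [Finite H] (E : Set H),
      BddAbove {n : ℕ | ∃ A : Set H, A ⊆ E ∧ A.Finite ∧ (∀ a ∈ A, ∀ b ∈ A, Commute a b) ∧ A.ncard = n} := by
    intro H _ _ E
    refine ⟨(Set.univ : Set H).ncard, ?_⟩
    rintro n ⟨A, -, -, -, rfl⟩
    exact Set.ncard_le_ncard (Set.subset_univ _) (Set.toFinite _)
  refine le_antisymm (csSup_le ⟨0, ∅, Set.empty_subset _, Set.finite_empty, fun _ h => absurd h
    (Set.notMem_empty _), Set.ncard_empty _⟩ ?_) ?_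
  · rintro n ⟨E, hE, hfin, hc, rfl⟩
    rcases E.eq_empty_or_nonempty with rfl | ⟨a, ha⟩
    · simp
    obtain ⟨L, hL⟩ := hLab a (hE ha)
    set S : Set ℕ := {p | p < 3510 ∧ L p ∈ E}
    have hS : S.Finite := (Set.finite_lt_nat 3510).subset fun p hp => hp.1
    have h1 : (E \ {a}).ncard ≤ S.ncard := by
      refine (Set.ncard_le_ncard (t := L '' S) ?_ (hS.image _)).trans (Set.ncard_image_le hS)
      rintro y ⟨hy, hya⟩
      obtain ⟨p, hp, rfl⟩ := hL.surj y ⟨hE hy, hya, hc a ha y hy⟩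
      exact ⟨p, ⟨hp, hy⟩, rfl⟩
    have h2 : S.ncard ≤ 22 := by
      rw [← hw]
      refine le_csSup (s := _) ?_ ⟨trN '' S, ?_, hS.image _, ?_, ?_⟩
      · refine ⟨(Set.univ : Set GG).ncard, ?_⟩
        rintro n ⟨A, -, -, -, rfl⟩
        exact Set.ncard_le_ncard (Set.subset_univ _) (Set.toFinite _)
      · rintro _ ⟨p, hp, rfl⟩; exact trN_mem hp.1
      · rintro _ ⟨p, hp, rfl⟩ _ ⟨q, hq, rfl⟩
        exact (tapp_self_iff hp.1 hq.1).1 ((hL.comm p hp.1 q hq.1).1 (hc _ hp.2 _ hq.2))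
      · exact Set.InjOn.ncard_image fun p hp q hq e => trN_inj hp.1 hq.1 e
    have h3 := Set.ncard_sdiff_singleton_add_one ha hfin
    omega
  · obtain ⟨a, ha, -⟩ := hprim.2.1
    obtain ⟨L, hL⟩ := hLab a ha
    obtain ⟨E, hE, hfin, hc, hn⟩ : 22 ∈ {n : ℕ | ∃ A : Set GG, A ⊆ Fi22Class.D ∧ A.Finite ∧
        (∀ a ∈ A, ∀ b ∈ A, Commute a b) ∧ A.ncard = n} := hw ▸ Nat.sSup_mem
      ⟨0, ∅, Set.empty_subset _, Set.finite_empty, fun _ h => absurd h (Set.notMem_empty _), Set.ncard_empty _⟩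
      ⟨(Set.univ : Set GG).ncard, by
        rintro n ⟨A, -, -, -, rfl⟩
        exact Set.ncard_le_ncard (Set.subset_univ _) (Set.toFinite _)⟩
    set S : Set ℕ := {p | p < 3510 ∧ trN p ∈ E}
    have hS : S.Finite := (Set.finite_lt_nat 3510).subset fun p hp => hp.1
    have himg : trN '' S = E := by
      refine Set.Subset.antisymm (fun _ ⟨p, hp, e⟩ => e ▸ hp.2) fun y hy => ?_
      obtain ⟨p, hp, rfl⟩ := exists_trN (hE hy)
      exact ⟨p, ⟨hp, hy⟩, rfl⟩
    have hcard : S.ncard = 22 := by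
      rw [← hn, ← himg, Set.InjOn.ncard_image fun p hp q hq e => trN_inj hp.1 hq.1 e]
    refine le_csSup (hbd D) ⟨insert a (L '' S), ?_, Set.toFinite _, ?_, ?_⟩
    · rintro y (rfl | ⟨p, hp, rfl⟩)
      · exact ha
      · exact (hL.mem p hp.1).1
    · rintro y (rfl | ⟨p, hp, rfl⟩) z (rfl | ⟨q, hq, rfl⟩)
      · exact Commute.refl _
      · exact (hL.mem q hq.1).2.2
      · exact (hL.mem p hp.1).2.2.symm
      · exact (hL.comm p hp.1 q hq.1).2 ((tapp_self_iff hp.1 hq.1).2 (hc _ hp.2 _ hq.2))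
    · rw [Set.ncard_insert_of_notMem, Set.InjOn.ncard_image fun p hp q hq e => hL.inj p hp.1 q hq.1 e, hcard]
      rintro ⟨p, hp, e⟩
      exact (hL.mem p hp.1).2.1 e

end Cfsg.Agent.FischerUnique23
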