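import Cfsg.Agent.Lib.FischerUnique23.Config
import Cfsg.Agent.Lib.FischerPresented.Fi23

/-!
A primitive group of type M(23) is the presented Fi23 with its class of transpositions.
-/

set_option autoImplicit false
set_option maxRecDepth 100000

namespace Cfsg.Agent.FischerUnique23

open Cfsg.Agent.CosetCert
open Cfsg.Agent.Fischer.Factor
open Cfsg.Agent.FischerUnique
open Cfsg.Agent.Fi22Local
open Cfsg.Agent.FischerPresented

universe u

local notation "FT" => CosetData.Fi23A.setup

/-- The edges of the diagram on a, …, j. -/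
def edge10 (i j : ℕ) : Bool := edgeB i j || (Nat.beq i 6 && Nat.beq j 9) || (Nat.beq i 9 && Nat.beq j 6)

/-- The two further relators. -/
def extras : List (List ℕ) := [rep 10 [3, 2, 1, 3, 4, 5, 3, 7, 8], rep 9 [0, 1, 2, 3, 4, 5, 7]]

theorem base_shape : (CosetData.Fi23A.base.all fun w => extras.any (wordEq w) ||
    (List.range 10).any fun i => (List.range 10).any fun j => !Nat.beq i j &&
      wordEq w (rep (bif edge10 i j then 3 else 2) [i, j])) = true := by decide +kernel

theorem extras_letters : (extras.all fun w => w.all fun i => Nat.blt i 9 && !Nat.beq i 6) = true := by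
  decide +kernel

/-- The transpositions of a word in a nine, as one word. -/
noncomputable def flatW (N w : List ℕ) : List ℕ := w.reverse.flatMap fun i => trW (N.getD i 0)

/-- The derived list. -/
noncomputable def derived (N : List ℕ) (l : List (ℕ × ℕ)) : List ℕ := derive l N

/-- What is evaluated for a nine. -/
noncomputable def nineB' (N : List ℕ) (gs : List (ℕ × ℕ)) : Bool :=
  ((List.range 9).all fun i => Nat.blt (N.getD i 0) 3510 && (List.range 9).all fun j =>
    Nat.beq i j || (!Nat.beq (N.getD i 0) (N.getD j 0) &&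
      ((edgeB i j) == !Nat.beq (tapp (N.getD i 0) (N.getD j 0)) (N.getD j 0)))) &&
  ((extras ++ [rep 9 [1, 2, 3, 4, 5, 6, 7]]).all fun w => sameW (flatW N w) []) &&
  Nat.beq N.length 9 && stepsOK gs 9 && ((List.range 9).all fun x => memB (Out22.gpt x) (derived N gs))

theorem nine_ok : nineB' nineA genA = true ∧ nineB' nineB genB = true := by decide +kernel

variable {G : Type u} [Group G] {D : Set G} {t : G} {L : ℕ → G}

/-- Products of labelled members act as the products of transpositions do. -/
theorem wprod_act (hL : Lab D t L) (N : List ℕ) (hN : ∀ i, N.getD i 0 < 3510) :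
    ∀ (w : List ℕ) {p : ℕ}, p < 3510 →
      L (apt (el (flatW N w)) p) = wprod (fun i => L (N.getD i 0)) w * L p *
        (wprod (fun i => L (N.getD i 0)) w)⁻¹
  | [], p, hp => by simp [flatW, el_nil, apt_one, wprod_nil]
  | i :: w, p, hp => by
    have h := wprod_act hL N hN w hp
    have e : el (flatW N (i :: w)) = trN (N.getD i 0) * el (flatW N w) := by
      simp only [flatW, List.reverse_cons, List.flatMap_append, el_append, List.flatMap_cons,
        List.flatMap_nil, List.append_nil]
      rfl
    rw [e, apt_mul, apt_trN (hN i) (apt_lt _ hp), hL.conj _ (hN i) _ (apt_lt _ hp), h, wprod_cons]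
    group

/-- A property closed under conjugation holds at all labels if it holds at nine generating ones. -/
theorem all_labels (hL : Lab D t L) {N : List ℕ} {gs : List (ℕ × ℕ)} (hN : nineB' N gs = true)
    (P : G → Prop) (hP : ∀ a b, P a → P b → P (a * b * a⁻¹))
    (hinv : ∀ p < 3510, L p * L p = 1) (h9 : ∀ i < 9, P (L (N.getD i 0))) :
    ∀ p < 3510, P (L p) := by
  simp only [nineB', Bool.and_eq_true, List.all_eq_true, List.mem_range, Nat.blt_eq, Nat.beq_eq] at hN
  obtain ⟨⟨⟨⟨hlt, -⟩, hlen⟩, hsteps⟩, hgen⟩ := hN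
  have hder : ∀ (s : List (ℕ × ℕ)) (l : List ℕ), stepsOK s l.length = true →
      (∀ a ∈ l, a < 3510 ∧ P (L a)) → ∀ a ∈ derive s l, a < 3510 ∧ P (L a) := by
    intro s
    induction s with
    | nil => intro l _ h a ha; exact h a ha
    | cons st s ih =>
      obtain ⟨a, b⟩ := st
      intro l hs h
      simp only [stepsOK, Bool.and_eq_true, Nat.blt_eq] at hs
      have hg : ∀ c, c < l.length → l.getD c 0 < 3510 ∧ P (L (l.getD c 0)) := fun c hc => by
        rw [List.getD_eq_getElem?_getD, List.getElem?_eq_getElem hc, Option.getD_some]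
        exact h _ (List.getElem_mem hc)
      refine ih _ (by simpa using hs.2.2) fun x hx => ?_
      rcases List.mem_append.1 hx with hx | hx
      · exact h x hx
      · rw [List.mem_singleton] at hx; subst hx
        refine ⟨tapp_lt (hg a hs.1).1 (hg b hs.2.1).1, ?_⟩
        rw [hL.conj _ (hg a hs.1).1 _ (hg b hs.2.1).1]
        exact hP _ _ (hg a hs.1).2 (hg b hs.2.1).2
  have hmem : ∀ x < 9, Out22.gpt x < 3510 ∧ P (L (Out22.gpt x)) := fun x hx =>
    hder gs N (hlen ▸ hsteps) (fun a ha => by
      obtain ⟨i, hi, rfl⟩ := List.getElem_of_mem ha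
      have h1 := hlt i (hlen ▸ hi)
      have h2 := h9 i (hlen ▸ hi)
      rw [List.getD_eq_getElem?_getD, List.getElem?_eq_getElem hi, Option.getD_some] at h1 h2
      exact ⟨h1.1, h2⟩) _ (mem_of_memB (hgen x hx))
  have key : ∀ g : GG, ∀ p < 3510, (P (L p) ↔ P (L (apt g p))) := by
    intro g
    have hg : g ∈ Subgroup.closure (gn '' {x | x < 9}) :=
      Setup.closure_gen CosetData.Fi22B.setup ▸ Subgroup.mem_top g
    induction hg using Subgroup.closure_induction with
    | mem y hy =>
      obtain ⟨x, hx, rfl⟩ := hy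
      obtain ⟨hlt', e⟩ := Out22.tr_gpt hx
      intro p hp
      rw [show gn x = trN (Out22.gpt x) from e.symm.trans (trN_eq hlt').symm, apt_trN hlt' hp,
        hL.conj _ hlt' _ hp]
      refine ⟨fun h => hP _ _ (hmem x hx).2 h, fun h => ?_⟩
      have := hP _ _ (hmem x hx).2 h
      rwa [show L (Out22.gpt x) * (L (Out22.gpt x) * L p * (L (Out22.gpt x))⁻¹) * (L (Out22.gpt x))⁻¹ =
        (L (Out22.gpt x) * L (Out22.gpt x)) * L p * (L (Out22.gpt x) * L (Out22.gpt x))⁻¹ by group,
        hinv _ hlt', one_mul, inv_one, mul_one] at this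
    | one => intro p _; rw [apt_one]
    | mul a b _ _ ha hb => intro p hp; rw [apt_mul, hb p hp]; exact ha _ (apt_lt b hp)
    | inv a _ ha =>
      intro p hp
      rw [ha (apt a⁻¹ p) (apt_lt _ hp), ← apt_mul, mul_inv_cancel, apt_one]
  have h0 : P (L 0) := by
    have := (hmem 0 (by norm_num)).2
    rwa [show Out22.gpt 0 = 0 by decide +kernel] at this
  intro p hp
  obtain ⟨g, hg⟩ := exists_to_zero hp
  rw [← hg]
  exact (key g 0 (by norm_num)).1 h0

variable [Finite G]

/-- A primitive group of type M(23) is Fi23 with its class of transpositions. -/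
theorem exists_iso (hT : Cfsg.IsThreeTranspositionGroup D) (hprim : Cfsg.IsPrimitiveUnderConj D)
    (ht23 : Cfsg.IsOfTypeM23 G D) : ∃ Φ : Setup.G FT ≃* G, Φ '' Fi23.D = D := by
  obtain ⟨t, ht, x, hx, L, hL, htx, i₀, hi₀, h8, h6⟩ := exists_config hT hprim ht23
  obtain ⟨N, gs, hN, hNi⟩ : ∃ N gs, nineB' N gs = true ∧ N = nine i₀ := by
    interval_cases i₀
    · exact ⟨nineA, genA, nine_ok.1, rfl⟩
    · exact ⟨nineB, genB, nine_ok.2, rfl⟩
  have hN' := hN
  simp only [nineB', Bool.and_eq_true, List.all_eq_true, List.mem_range, Nat.blt_eq, Nat.beq_eq] at hN'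
  obtain ⟨⟨⟨⟨hrel, hw1⟩, hlen⟩, -⟩, -⟩ := hN'
  subst hNi
  set N := nine i₀
  have hlt : ∀ i, N.getD i 0 < 3510 := fun i => by
    by_cases hi : i < 9
    · exact (hrel i hi).1
    · rw [List.getD_eq_getElem?_getD, List.getElem?_eq_none (by omega)]; norm_num
  have hT6 : ¬ Commute x (L (N.getD 6 0)) := fun h => h6 ⟨hlt 6, h⟩
  let f : ℕ → G := fun i => if i = 9 then x else L (N.getD i 0)
  have hf : ∀ i < 9, f i = L (N.getD i 0) := fun i hi => if_neg (by omega)
  have hf9 : f 9 = x := if_pos rfl
  have hfD : ∀ i, f i ∈ D := fun i => by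
    show (if i = 9 then x else L (N.getD i 0)) ∈ D
    split
    · exact hx
    · exact (hL.mem _ (hlt i)).1
  have hinv : ∀ i, f i * f i = 1 := fun i => Fischer.TSet.sq hT.1 (hfD i)
  have hLinv : ∀ p < 3510, L p * L p = 1 := fun p hp => Fischer.TSet.sq hT.1 (hL.mem p hp).1
  -- relations of pairs
  have hpair : ∀ i < 10, ∀ j < 10, i ≠ j → (Commute (f i) (f j) ↔ edge10 i j = false) ∧ f i ≠ f j := by
    intro i hi j hj hij
    rcases (by omega : i = 9 ∨ i < 9) with rfl | hi'
    · obtain hj' : j < 9 := by omega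
      rw [hf9, hf j hj']
      refine ⟨?_, fun e => htx (e ▸ (hL.mem _ (hlt j)).2.2)⟩
      by_cases h : j = 6
      · subst h; exact ⟨fun h => absurd h hT6, fun h => absurd h (by decide)⟩
      · exact ⟨fun _ => by
          have : edgeB 9 j = false := by
            have hall : ((List.range 9).all fun j => !edgeB 9 j && !edgeB j 9) = true := by decide +kernel
            simp only [List.all_eq_true, List.mem_range, Bool.and_eq_true, Bool.not_eq_true'] at hall
            exact (hall j hj').1
          simp [edge10, this, show Nat.beq j 6 = false from Bool.eq_false_iff.2 fun e => h (Nat.eq_of_beq_eq_true e),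
            show Nat.beq 9 6 = false from rfl], fun _ => (h8 j hj' h).2⟩
    rcases (by omega : j = 9 ∨ j < 9) with rfl | hj'
    · rw [hf9, hf i hi']
      refine ⟨?_, fun e => htx (e ▸ (hL.mem _ (hlt i)).2.2)⟩
      by_cases h : i = 6
      · subst h; exact ⟨fun h => absurd h.symm hT6, fun h => absurd h (by decide)⟩
      · exact ⟨fun _ => by
          have : edgeB i 9 = false := by
            have hall : ((List.range 9).all fun j => !edgeB 9 j && !edgeB j 9) = true := by decide +kernel
            simp only [List.all_eq_true, List.mem_range, Bool.and_eq_true, Bool.not_eq_true'] at hall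
            exact (hall i hi').2
          simp [edge10, this, show Nat.beq i 6 = false from Bool.eq_false_iff.2 fun e => h (Nat.eq_of_beq_eq_true e),
            show Nat.beq 9 6 = false from rfl], fun _ => (h8 i hi' h).2.symm⟩
    rw [hf i hi', hf j hj']
    have h := ((hrel i hi').2 j hj')
    simp only [Bool.or_eq_true, Nat.beq_eq, hij, false_or, Bool.and_eq_true, Bool.not_eq_true',
      beq_iff_eq] at h
    refine ⟨?_, fun e => ?_⟩
    · have he : edge10 i j = edgeB i j := by
        simp [edge10, show Nat.beq i 9 = false from Bool.eq_false_iff.2 fun e => by have := Nat.eq_of_beq_eq_true e; omega,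
        show Nat.beq j 9 = false from Bool.eq_false_iff.2 fun e => by have := Nat.eq_of_beq_eq_true e; omega]
      rw [hL.comm _ (hlt i) _ (hlt j), he, h.2, Bool.not_eq_false', Nat.beq_eq]
    · have := hL.inj _ (hlt i) _ (hlt j) e
      rw [this] at h
      simp at h
  have hgenD : ∀ k : G, Commute k t → Commute k x → (∀ p < 3510, Commute k (L p)) → k = 1 := by
    intro k k1 k2 k3
    have hcl : ∀ g ∈ Fischer.commClosure D t, Commute k g := by
      intro g hg
      unfold Fischer.commClosure at hg
      induction hg using Subgroup.closure_induction with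
      | mem y hy =>
        by_cases e : y = t
        · exact e ▸ k1
        · obtain ⟨p, hp, rfl⟩ := hL.surj y ⟨hy.1, e, hy.2⟩
          exact k3 p hp
      | one => exact Commute.one_right k
      | mul a b _ _ h1 h2 => exact h1.mul_right h2
      | inv a _ h1 => exact h1.inv_right
    have : k ∈ Subgroup.center G := Fischer.mem_center_of_commute_gen hT.2.2 fun y hy => by
      by_cases hc : Commute t y
      · exact hcl y (Subgroup.subset_closure ⟨hy, hc⟩)
      obtain ⟨g, hg, rfl⟩ := Fischer.prim_trans_noncommuting hT hprim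
        ⟨t, ht, L 0, (hL.mem 0 (by norm_num)).1, (hL.mem 0 (by norm_num)).2.1.symm,
          (hL.mem 0 (by norm_num)).2.2⟩ ht x hx y hy htx hc
      exact ((hcl g hg).mul_right k2).mul_right (hcl g hg).inv_right
    rwa [ht23.1, Subgroup.mem_bot] at this
  -- the words among the nine
  have hword : ∀ w : List ℕ, sameW (flatW N w) [] = true →
      ∀ p < 3510, Commute (wprod (fun i => L (N.getD i 0)) w) (L p) := by
    intro w hw p hp
    have h := wprod_act hL N hlt w hp
    rw [el_eq hw, el_nil, apt_one] at h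
    exact (eq_mul_inv_iff_mul_eq.1 h).symm
  have hextra : ∀ w ∈ extras, wprod f w = 1 := by
    intro w hw
    have hl := List.all_eq_true.1 extras_letters w hw
    simp only [List.all_eq_true, Bool.and_eq_true, Nat.blt_eq, Bool.not_eq_true'] at hl
    rw [wprod_congr (g := fun i => L (N.getD i 0)) fun i hi => hf i (hl i hi).1]
    refine hgenD _ ?_ ?_ (hword w (hw1 w (List.mem_append_left _ hw)))
    · clear hw hl
      induction w with
      | nil => rw [wprod_nil]; exact Commute.one_left t
      | cons i w ih => rw [wprod_cons]; exact ((hL.mem _ (hlt i)).2.2.symm).mul_left ih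
    · clear hw
      induction w with
      | nil => rw [wprod_nil]; exact Commute.one_left x
      | cons i w ih =>
        rw [wprod_cons]
        refine ((h8 i (hl i List.mem_cons_self).1 ?_).2.symm).mul_left
          (ih fun j hj => hl j (List.mem_cons_of_mem _ hj))
        intro e; have := (hl i List.mem_cons_self).2; rw [e] at this; simp at this
  have hb : ∀ w ∈ CosetData.Fi23A.base, wprod f w = 1 := by
    intro w hw
    have := List.all_eq_true.1 base_shape w hw
    simp only [Bool.or_eq_true, List.any_eq_true, Bool.and_eq_true, List.mem_range,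
      Bool.not_eq_true'] at this
    rcases this with ⟨u, hu, e⟩ | ⟨i, hi, j, hj, hij, e⟩
    · rw [eq_of_wordEq e]; exact hextra u hu
    · have hij' : i ≠ j := fun e => by rw [e] at hij; simp at hij
      rw [eq_of_wordEq e, wprod_rep, wprod_cons, wprod_cons, wprod_nil, mul_one]
      cases he : edge10 i j with
      | false => rw [cond_false]
                 exact (Fischer.commute_iff_sq_eq_one (hinv i) (hinv j)).1 ((hpair i hi j hj hij').1.2 he)
      | true => rw [cond_true]
                exact Fischer.TSet.cube hT.1 (hfD i) (hfD j) fun hc => by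
                  rw [(hpair i hi j hj hij').1.1 hc] at he; exact Bool.noConfusion he
  obtain ⟨ψ, hψ⟩ := exists_hom_fin FT f hinv hb
  have hψ' : ∀ i < 10, ψ (Setup.gen FT i) = f i := hψ
  have := Fi23.isSimpleGroup
  have hψinj : Function.Injective ψ := by
    rw [← MonoidHom.ker_eq_bot_iff]
    refine (MonoidHom.normal_ker ψ).eq_bot_or_eq_top.resolve_right fun htop => ?_
    refine Fischer.TSet.ne_one hT.1 (hfD 0) ?_
    rw [← hψ' 0 (by norm_num), MonoidHom.ker_eq_top_iff.1 htop]; rfl
  have hzD : ψ Fi23.z ∈ D := by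
    rw [Fi23.z_eq, map_mul, map_mul, map_inv, hψ' 0 (by norm_num)]
    exact hT.2.1 _ _ (hfD 0)
  have hzL : ∀ p < 3510, Commute (ψ Fi23.z) (L p) :=
    all_labels hL hN (Commute (ψ Fi23.z)) (fun a b ha hb => (ha.mul_right hb).mul_right ha.inv_right) hLinv
      fun i hi => by
        rw [← hf i hi, ← hψ' i (by omega)]
        exact (show Commute Fi23.z (Setup.gen FT i) from Fi23.z_comm i hi).map ψ
  have hzt : ψ Fi23.z = t := by
    by_contra hne
    by_cases hc : Commute t (ψ Fi23.z)
    · obtain ⟨q, hq, e⟩ := hL.surj _ ⟨hzD, hne, hc⟩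
      obtain ⟨g, hg⟩ := exists_to_zero hq
      have h2 : apt g 2 < 3510 := apt_lt g (by norm_num)
      have := (hL.comm _ h2 _ hq).1 (e ▸ (hzL _ h2)).symm
      rw [← hg, ← apt_tapp g (by norm_num) (by norm_num)] at this
      exact absurd (apt_injective g this) (by decide +kernel)
    obtain ⟨m, hm, hmx⟩ := Fischer.prim_trans_noncommuting hT hprim
      ⟨t, ht, L 0, (hL.mem 0 (by norm_num)).1, (hL.mem 0 (by norm_num)).2.1.symm,
        (hL.mem 0 (by norm_num)).2.2⟩ ht (ψ Fi23.z) hzD x hx hc htx
    refine hT6 ?_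
    have hy := nb_conj hT m⁻¹ (hL.mem _ (hlt 6))
    rw [inv_inv, show m⁻¹ * t * m = t by
      rw [mul_assoc, (Fischer.commute_of_mem_commClosure hm).symm.eq, inv_mul_cancel_left]] at hy
    obtain ⟨p, hp, e⟩ := hL.surj _ hy
    rw [← hmx, show L (N.getD 6 0) = m * L p * m⁻¹ by rw [e]; group]
    exact (Fischer.commute_conj_iff m _ _).2 (hzL p hp)
  have htR : t ∈ ψ.range := ⟨_, hzt⟩
  have hLR : ∀ p < 3510, L p ∈ ψ.range :=
    all_labels hL hN (· ∈ ψ.range) (fun a b ha hb => mul_mem (mul_mem ha hb) (inv_mem ha)) hLinv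
      fun i hi => ⟨_, (hψ' i (by omega)).trans (hf i hi)⟩
  have hK : ∀ g ∈ Fischer.commClosure D t, g ∈ ψ.range := by
    intro g hg
    unfold Fischer.commClosure at hg
    induction hg using Subgroup.closure_induction with
    | mem y hy =>
      by_cases e : y = t
      · exact e ▸ htR
      · obtain ⟨p, hp, rfl⟩ := hL.surj y ⟨hy.1, e, hy.2⟩
        exact hLR p hp
    | one => exact one_mem _
    | mul a b _ _ h1 h2 => exact mul_mem h1 h2
    | inv a _ h1 => exact inv_mem h1
  have hxR : x ∈ ψ.range := ⟨_, (hψ' 9 (by norm_num)).trans hf9⟩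
  have hD : D ⊆ ψ.range := by
    intro y hy
    by_cases hc : Commute t y
    · exact hK y (Subgroup.subset_closure ⟨hy, hc⟩)
    obtain ⟨g, hg, rfl⟩ := Fischer.prim_trans_noncommuting hT hprim
      ⟨t, ht, L 0, (hL.mem 0 (by norm_num)).1, (hL.mem 0 (by norm_num)).2.1.symm,
        (hL.mem 0 (by norm_num)).2.2⟩ ht x hx y hy htx hc
    exact mul_mem (mul_mem (hK g hg) hxR) (inv_mem (hK g hg))
  have hsurj : Function.Surjective ψ := by
    rw [← MonoidHom.range_eq_top, eq_top_iff, ← hT.2.2, Subgroup.closure_le]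
    exact hD
  refine ⟨MulEquiv.ofBijective ψ ⟨hψinj, hsurj⟩, ?_⟩
  refine Set.Subset.antisymm ?_ fun y hy => ?_
  · rintro _ ⟨w, hw, rfl⟩
    obtain ⟨g, rfl⟩ := Fi23.mem_D.1 hw
    show ψ _ ∈ D
    rw [map_mul, map_mul, map_inv, hzt]
    exact hT.2.1 _ _ ht
  · obtain ⟨g, hg⟩ := hprim.1 t ht y hy
    obtain ⟨g', rfl⟩ := hsurj g
    refine ⟨g' * Fi23.z * g'⁻¹, Fi23.mem_D.2 ⟨g', rfl⟩, ?_⟩
    show ψ _ = y
    rw [map_mul, map_mul, map_inv, hzt, hg]

end Cfsg.Agent.FischerUnique23
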