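import Cfsg.Agent.Lib.FischerUnique23.Facts
import Cfsg.Agent.Lib.Classification.Basic

/-!
The joint centraliser of two commuting transpositions in Fi23.
-/

set_option autoImplicit false
set_option maxRecDepth 100000

namespace Cfsg.Agent.FischerUnique23

open Cfsg.Agent.CosetCert
open Cfsg.Agent.Fischer.Factor
open Cfsg.Agent.FischerUnique
open Cfsg.Agent.Fi22Local
open Cfsg.Agent.FischerPresented
open Cfsg.Agent.RigidGraph.He

local notation "FT" => CosetData.Fi23A.setup

/-- The presented Fi23. -/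
abbrev GT := Setup.G FT

/-- The generators of the presented Fi23. -/
noncomputable abbrev gT (x : ℕ) : GT := Setup.gen FT x

/-- The joint centraliser of the standard pair. -/
noncomputable def K0 : Subgroup GT := Subgroup.centralizer ({Fi23.z, gT 0} : Set GT)

theorem gn_zero : gn 0 = Fi22Class.z := rfl

theorem exists_pi : ∃ π : Fi23.K →* GG, Function.Surjective π ∧ (∀ x < 9, π (Fi23.gK x) = gn x) ∧
    ∀ g, π g = 1 ↔ g = 1 ∨ g = Fi23.zK := by
  obtain ⟨ψ, hψ, hgen⟩ := Fi23.exists_hom_Fi22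
  have hfin := Fi23.order_facts.1
  have hfin22 := Fi22.order_facts.1
  have hc := Subgroup.card_eq_card_quotient_mul_card_subgroup Fi23.Z
  rw [Fi23.card_K, Fi23.card_Z] at hc
  have hb : Function.Bijective ψ := (Nat.bijective_iff_surjective_and_card _).2
    ⟨hψ, by rw [Fi22.order_facts.2.1]; omega⟩
  obtain ⟨e, he⟩ : ∃ e : GG ≃* Fi23.K ⧸ Fi23.Z, ∀ x, e x = ψ x := ⟨MulEquiv.ofBijective ψ hb, fun _ => rfl⟩
  refine ⟨e.symm.toMonoidHom.comp (QuotientGroup.mk' Fi23.Z), e.symm.surjective.comp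
    (QuotientGroup.mk'_surjective _), fun x hx => ?_, fun g => ?_⟩
  · show e.symm (QuotientGroup.mk' Fi23.Z (Fi23.gK x)) = gn x
    rw [← hgen x hx, ← he, e.symm_apply_apply]
  · show e.symm (QuotientGroup.mk' Fi23.Z g) = 1 ↔ _
    rw [map_eq_one_iff _ e.symm.injective, QuotientGroup.mk'_apply, QuotientGroup.eq_one_iff, Fi23.Z]
    constructor
    · intro h
      obtain ⟨k, rfl⟩ := Subgroup.mem_zpowers_iff.1 h
      have h2 : Fi23.zK * Fi23.zK = 1 := Subtype.ext Fi23.z_sq
      rcases Int.even_or_odd' k with ⟨m, rfl | rfl⟩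
      · exact Or.inl (by rw [zpow_mul, zpow_two, h2, one_zpow])
      · exact Or.inr (by rw [zpow_add, zpow_mul, zpow_two, h2, one_zpow, one_mul, zpow_one])
    · rintro (rfl | rfl)
      · exact one_mem _
      · exact Subgroup.mem_zpowers _

theorem z_comm_a : Fi23.z * gT 0 = gT 0 * Fi23.z := Fi23.z_comm 0 (by norm_num)

theorem comm_zero_nine : Commute (gT 0) (gT 9) := by
  have h := Fi23.word_one (w := [0, 9, 0, 9]) (by decide +kernel)
  simp only [wprod, List.map_cons, List.map_nil, List.prod_cons, List.prod_nil, mul_one] at h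
  exact (Fischer.commute_iff_sq_eq_one (Setup.gen_invol FT 0) (Setup.gen_invol FT 9)).2
    (by rw [pow_two, mul_assoc]; exact h)

theorem za_not_mem : gT 0 * Fi23.z ∉ Fi23.D := by
  intro hm
  have h9 : gT 9 ∈ Fi23.D := by
    have h6 := (gen_nb 6 (by norm_num)).1
    have hbr := Fi23.braid_rel (p := (6, 9)) (by simp)
    have e : gT 9 = (gT 6 * gT 9) * gT 6 * (gT 6 * gT 9)⁻¹ := by
      rw [mul_inv_rev, inv_eq_of_mul_eq_one_right (Setup.gen_invol FT 6),
        inv_eq_of_mul_eq_one_right (Setup.gen_invol FT 9)]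
      rw [pow_succ, pow_two] at hbr
      have h' : (gT 6 * gT 9 * gT 6 * (gT 9 * gT 6)) * gT 9 = 1 := by simpa [mul_assoc] using hbr
      exact ((eq_inv_of_mul_eq_one_left h').trans
        (inv_eq_of_mul_eq_one_right (Setup.gen_invol FT 9))).symm
    rw [e]; exact D23_group.2.1 _ _ h6
  have hnz : ¬ Commute (gT 9) Fi23.z := by
    intro h
    refine Fi23.z_ne_one (Fi23.kill (MonoidHom.id GT) Function.surjective_id (fun g => ?_) Fi23.z)
    show Fi23.z * g = g * Fi23.z
    have hg : g ∈ Subgroup.closure (gT '' {x | x < 10}) := Setup.closure_gen FT ▸ Subgroup.mem_top g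
    induction hg using Subgroup.closure_induction with
    | mem y hy =>
      obtain ⟨x, hx, rfl⟩ := hy
      rcases Nat.lt_or_ge x 9 with h9 | h9
      · exact Fi23.z_comm x h9
      · obtain rfl : x = 9 := by simp only [Set.mem_ofPred_eq] at hx; omega
        exact h.eq.symm
    | one => simp
    | mul a b _ _ ha hb => rw [← mul_assoc, ha, mul_assoc, hb, mul_assoc]
    | inv a _ ha => exact (Commute.inv_right (show Commute Fi23.z a from ha)).eq
  have ca : Commute (gT 0) (gT 9) := comm_zero_nine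
  have cz : Commute (gT 0) Fi23.z := z_comm_a.symm
  have p1 : (gT 9 * Fi23.z) ^ 3 = 1 := Fischer.TSet.cube D23_group.1 h9 z23_mem hnz
  have p2 : (gT 9 * (gT 0 * Fi23.z)) ^ 3 = 1 := Fischer.TSet.cube D23_group.1 h9 hm fun h2 => hnz (by
    have := (ca.symm.inv_right).mul_right h2
    rwa [inv_mul_cancel_left] at this)
  have c3 : Commute (gT 0) (gT 9 * Fi23.z) := ca.mul_right cz
  rw [← mul_assoc, ← ca.eq, mul_assoc, c3.mul_pow, p1, mul_one, pow_succ, pow_two, Setup.gen_invol, one_mul]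
    at p2
  exact Fischer.TSet.ne_one D23_group.1 (gen_nb 0 (by norm_num)).1 p2

theorem mem_K0_iff {π : Fi23.K →* GG} (hgen : ∀ x < 9, π (Fi23.gK x) = gn x)
    (hker : ∀ g, π g = 1 ↔ g = 1 ∨ g = Fi23.zK) (g : Fi23.K) : (g : GT) ∈ K0 ↔ π g ∈ Fi22.H := by
  have hg0 : ((Fi23.gK 0 : Fi23.K) : GT) = gT 0 := Fi23.gK_coe (by norm_num)
  rw [← Fi22Class.centralizer_z, Subgroup.mem_centralizer_singleton_iff, K0,
    Subgroup.mem_centralizer_iff, ← gn_zero, ← hgen 0 (by norm_num)]
  constructor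
  · intro h
    rw [← map_mul, ← map_mul]
    refine congrArg π (Subtype.ext ?_)
    rw [Subgroup.coe_mul, Subgroup.coe_mul, hg0]
    exact (h _ (Or.inr rfl)).symm
  · intro h y hy
    have hzg : Fi23.z * (g : GT) = (g : GT) * Fi23.z :=
      (Subgroup.mem_centralizer_singleton_iff.1 (Fi23.centralizer_z.ge g.2)).symm
    rcases hy with rfl | rfl
    · exact hzg
    · rw [← map_mul, ← map_mul, ← mul_inv_eq_one, ← map_inv, ← map_mul, hker] at h
      rcases h with h | h
      · have := congrArg (Subtype.val) h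
        simp only [Subgroup.coe_mul, Subgroup.coe_inv, Subgroup.coe_one, hg0, mul_inv_eq_one] at this
        exact this.symm
      · exfalso
        have := congrArg (Subtype.val) h
        simp only [Subgroup.coe_mul, Subgroup.coe_inv, hg0, show (Fi23.zK : GT) = Fi23.z from rfl,
          mul_inv_eq_iff_eq_mul] at this
        refine za_not_mem ?_
        have e : gT 0 * Fi23.z = (g : GT) * gT 0 * (g : GT)⁻¹ := by
          rw [eq_mul_inv_iff_mul_eq, this, ← z_comm_a]
          simp only [mul_assoc]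
        rw [e]
        exact D23_group.2.1 _ _ (gen_nb 0 (by norm_num)).1

/-- Six commuting transpositions with product z, and one meeting none of them. -/
def sixB : List ℕ := [8, 19, 137, 172, 232, 260]

theorem six_ok : ((sixB ++ [34]).all fun b => Nat.blt b 3510 && Nat.beq (tapp 0 b) b) = true := by
  decide +kernel

theorem six_cube : (sixB.all fun b =>
    wordFixPts CosetData.Fi23A.P 31671 Fi23.pts (rep 3 (trW b ++ trW 34))) = true := by
  decide +kernel

theorem six_prod : wordFixPts CosetData.Fi23A.P 31671 Fi23.pts (sixB.flatMap trW ++ Fi23.zW) = true := by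
  decide +kernel

/-- The lift of the transposition of `b`. -/
noncomputable def YK (b : ℕ) : Fi23.K := wprod Fi23.gK (trW b)

theorem YK_coe {b : ℕ} (hb : b < 3510) : (YK b : GT) = wprod gT (trW b) := Fi23.wprod_gK (trW_ok hb)

theorem trW_rev (b : ℕ) : (trW b).reverse = trW b := by simp [trW]

theorem YK_sq (b : ℕ) : YK b * YK b = 1 := by
  have hinv : ∀ x, Fi23.gK x * Fi23.gK x = 1 := Fi23.gK_invol
  nth_rewrite 2 [YK]
  rw [← trW_rev, wprod_reverse hinv, YK, mul_inv_cancel]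

theorem YK_mem {π : Fi23.K →* GG} (hgen : ∀ x < 9, π (Fi23.gK x) = gn x)
    (hker : ∀ g, π g = 1 ↔ g = 1 ∨ g = Fi23.zK) {b : ℕ} (hb : b ∈ sixB ++ [34]) :
    b < 3510 ∧ (YK b : GT) ∈ K0 := by
  have h := List.all_eq_true.1 six_ok b hb
  simp only [Bool.and_eq_true, Nat.blt_eq, Nat.beq_eq] at h
  refine ⟨h.1, (mem_K0_iff hgen hker _).2 ?_⟩
  have e : π (YK b) = trN b := by
    rw [YK, map_wprod, trN, el, trW_rev]
    exact wprod_congr fun x hx => hgen x (Nat.blt_eq.mp (List.all_eq_true.1 (trW_ok h.1) x hx))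
  have e0 : trN 0 = Fi22Class.z := by
    have := apt_trN (show 0 < 3510 by norm_num) (show 0 < 3510 by norm_num)
    rw [trN]
    exact el_eq (u := trW 0) (v := [0]) (by decide +kernel) |>.trans (by simp [el, wprod, Fi22Class.z])
  rw [e, ← Fi22Class.centralizer_z, Subgroup.mem_centralizer_singleton_iff, ← e0]
  exact (((tapp_self_iff (show 0 < 3510 by norm_num) h.1).1 h.2)).symm.eq

theorem zK_mem_commutator : (⟨Fi23.z, by
      rw [K0, Subgroup.mem_centralizer_iff]
      rintro y (rfl | rfl)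
      · rfl
      · exact z_comm_a.symm⟩ : K0) ∈ commutator K0 := by
  obtain ⟨π, -, hgen, hker⟩ := exists_pi
  obtain ⟨Y, hY⟩ : ∃ Y : ℕ → K0, ∀ b ∈ sixB ++ [34], (Y b : GT) = wprod gT (trW b) := by
    classical
    refine ⟨fun b => if h : wprod gT (trW b) ∈ K0 then ⟨_, h⟩ else 1, fun b hb => ?_⟩
    obtain ⟨h1, h2⟩ := YK_mem hgen hker hb
    rw [YK_coe h1] at h2
    simp only [dif_pos h2]
  obtain ⟨q, hq⟩ : ∃ q : K0 →* Abelianization K0, q = Abelianization.of := ⟨_, rfl⟩
  have hsq : ∀ b ∈ sixB ++ [34], q (Y b) * q (Y b) = 1 := fun b hb => by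
    rw [← map_mul]
    have : Y b * Y b = 1 := Subtype.ext (by
      rw [Subgroup.coe_mul, hY b hb, ← YK_coe (YK_mem hgen hker hb).1, ← Subgroup.coe_mul, YK_sq]; rfl)
    rw [this, map_one]
  have heq : ∀ b ∈ sixB, q (Y b) = q (Y 34) := by
    intro b hb
    have hb' : b ∈ sixB ++ [34] := List.mem_append_left _ hb
    have h34 : 34 ∈ sixB ++ [34] := by simp
    have h1 := Fi23.word_one (List.all_eq_true.1 six_cube b hb)
    rw [wprod_rep, wprod_append, ← hY b hb', ← hY 34 h34, ← Subgroup.coe_mul, ← SubgroupClass.coe_pow] at h1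
    have h2 : (Y b * Y 34) ^ 3 = 1 := Subtype.ext h1
    have h3 := congrArg q h2
    rw [map_pow, map_mul, map_one, mul_pow, pow_succ, pow_two, hsq b hb', one_mul, pow_succ, pow_two,
      hsq 34 h34, one_mul, mul_eq_one_iff_eq_inv] at h3
    rw [h3]
    exact inv_eq_of_mul_eq_one_right (hsq 34 h34)
  have hprod : (Fi23.z : GT) = wprod gT (sixB.flatMap trW) := by
    have h := Fi23.word_one six_prod
    rw [wprod_append, show wprod gT Fi23.zW = Fi23.z from rfl, mul_eq_one_iff_eq_inv] at h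
    rw [h, inv_eq_of_mul_eq_one_right Fi23.z_sq]
  rw [← Abelianization.ker_of, MonoidHom.mem_ker, ← hq]
  refine Eq.trans (congrArg q (a₂ := Y 8 * Y 19 * Y 137 * Y 172 * Y 232 * Y 260) (Subtype.ext ?_)) ?_
  · refine hprod.trans ?_
    simp only [sixB, List.flatMap_cons, List.flatMap_nil, List.append_nil, wprod_append, Subgroup.coe_mul]
    rw [hY 8 (by simp [sixB]), hY 19 (by simp [sixB]), hY 137 (by simp [sixB]), hY 172 (by simp [sixB]),
      hY 232 (by simp [sixB]), hY 260 (by simp [sixB])]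
    simp only [mul_assoc]
  · simp only [map_mul]
    rw [heq 8 (by simp [sixB]), heq 19 (by simp [sixB]), heq 137 (by simp [sixB]), heq 172 (by simp [sixB]),
      heq 232 (by simp [sixB]), heq 260 (by simp [sixB]), hsq 34 (by simp), one_mul,
      hsq 34 (by simp), one_mul, hsq 34 (by simp)]

/-- The joint centraliser of the standard pair is a quasisimple cover of the unitary group by a four group. -/
theorem pair_model : (Subgroup.center K0).map K0.subtype = Subgroup.closure ({Fi23.z, gT 0} : Set GT) ∧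
    Cfsg.IsQuasisimple K0 ∧ Nonempty (K0 ⧸ Subgroup.center K0 ≃* Cfsg.PSU 6 K4 2) := by
  obtain ⟨π, hπ, hgen, hker⟩ := exists_pi
  have hsub : ∀ g : K0, (g : GT) ∈ Fi23.K := fun g => by
    rw [← Fi23.centralizer_z, Subgroup.mem_centralizer_singleton_iff]
    exact (Subgroup.mem_centralizer_iff.1 g.2 _ (Or.inl rfl)).symm
  obtain ⟨ρ, hρ⟩ : ∃ ρ : K0 →* Fi22.H, ∀ g : K0, (ρ g : GG) = π ⟨g, hsub g⟩ :=
    ⟨{ toFun := fun g => ⟨π ⟨g, hsub g⟩, (mem_K0_iff hgen hker _).1 g.2⟩
       map_one' := Subtype.ext (map_one π)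
       map_mul' := fun g h => Subtype.ext (map_mul π ⟨g, hsub g⟩ ⟨h, hsub h⟩) }, fun g => rfl⟩
  have hρs : Function.Surjective ρ := by
    rintro ⟨h, hh⟩
    obtain ⟨g, rfl⟩ := hπ h
    exact ⟨⟨g, (mem_K0_iff hgen hker g).2 hh⟩, Subtype.ext (hρ _)⟩
  have hρ1 : ∀ g : K0, ρ g = 1 ↔ (g : GT) = 1 ∨ (g : GT) = Fi23.z := fun g => by
    rw [← OneMemClass.coe_eq_one, hρ, hker, ← Subtype.coe_inj, ← Subtype.coe_inj]
    exact Iff.rfl
  obtain ⟨f, hf⟩ : ∃ f : K0 →* Cfsg.PSU 6 K4 2, f = U62.θ.comp ρ := ⟨_, rfl⟩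
  have hfs : Function.Surjective f := hf ▸ U62.surjective.comp hρs
  have ha : gT 0 ∈ K0 := by
    rw [K0, Subgroup.mem_centralizer_iff]
    rintro y (rfl | rfl)
    · exact z_comm_a
    · rfl
  have hρa : ρ ⟨gT 0, ha⟩ = U62.hgH 0 := by
    refine Subtype.ext ((hρ _).trans ?_)
    rw [show (⟨gT 0, hsub ⟨gT 0, ha⟩⟩ : Fi23.K) = Fi23.gK 0 from
      Subtype.ext (Fi23.gK_coe (by norm_num)).symm, hgen 0 (by norm_num), FischerUnique.z_eq]
    rfl
  have hkerf : ∀ g : K0, f g = 1 → (g : GT) ∈ Subgroup.closure ({Fi23.z, gT 0} : Set GT) := by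
    intro g hg
    rw [hf] at hg
    have hz : Fi23.z ∈ Subgroup.closure ({Fi23.z, gT 0} : Set GT) := Subgroup.subset_closure (Or.inl rfl)
    have ha' : gT 0 ∈ Subgroup.closure ({Fi23.z, gT 0} : Set GT) := Subgroup.subset_closure (Or.inr rfl)
    rcases U62.mem_ker hg with h | h
    · rcases (hρ1 g).1 h with e | e <;> rw [e]
      · exact one_mem _
      · exact hz
    · rw [← hρa, ← mul_inv_eq_one, ← map_inv, ← map_mul, hρ1] at h
      rcases h with e | e <;>
        simp only [Subgroup.coe_mul, Subgroup.coe_inv, mul_inv_eq_iff_eq_mul] at e <;> rw [e]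
      · exact mul_mem (one_mem _) ha'
      · exact mul_mem hz ha'
  have hcent : Subgroup.center K0 = f.ker := by
    refine le_antisymm (fun g hg => ?_) (fun g hg => ?_)
    · have h : f g ∈ Subgroup.center (Cfsg.PSU 6 K4 2) := Subgroup.mem_center_iff.2 fun x => by
        obtain ⟨k, rfl⟩ := hfs x
        rw [← map_mul, ← map_mul, Subgroup.mem_center_iff.1 hg k]
      rwa [U62.center_psu, Subgroup.mem_bot] at h
    · refine Subgroup.mem_center_iff.2 fun k => Subtype.ext ?_
      have hle : Subgroup.closure ({Fi23.z, gT 0} : Set GT) ≤ Subgroup.centralizer ({(k : GT)} : Set GT) := by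
        rw [Subgroup.closure_le]
        intro y hy
        exact Subgroup.mem_centralizer_singleton_iff.2 (Subgroup.mem_centralizer_iff.1 k.2 y hy)
      exact (Subgroup.mem_centralizer_singleton_iff.1 (hle (hkerf g hg))).symm
  obtain ⟨eq⟩ : Nonempty (K0 ⧸ Subgroup.center K0 ≃* Cfsg.PSU 6 K4 2) :=
    ⟨(QuotientGroup.quotientMulEquivOfEq hcent).trans (QuotientGroup.quotientKerEquivOfSurjective f hfs)⟩
  have hz : Fi23.z ∈ K0 := by
    rw [K0, Subgroup.mem_centralizer_iff]
    rintro y (rfl | rfl)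
    · rfl
    · exact z_comm_a.symm
  refine ⟨le_antisymm ?_ ?_, ⟨⟨eq_top_iff.2 fun g _ => ?_⟩, ?_⟩, ⟨eq⟩⟩
  · rintro _ ⟨g, hg, rfl⟩
    exact hkerf g (hcent.le hg)
  · rw [Subgroup.closure_le]
    rintro y (rfl | rfl)
    · refine ⟨⟨_, hz⟩, Subgroup.mem_center_iff.2 fun k => Subtype.ext ?_, rfl⟩
      exact (Subgroup.mem_centralizer_iff.1 k.2 _ (Or.inl rfl)).symm
    · refine ⟨⟨_, ha⟩, Subgroup.mem_center_iff.2 fun k => Subtype.ext ?_, rfl⟩
      exact (Subgroup.mem_centralizer_iff.1 k.2 _ (Or.inr rfl)).symm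
  · have hN : (commutator K0).map ρ = ⊤ := by
      rw [commutator_def, Subgroup.map_commutator, Subgroup.map_top_of_surjective _ hρs, ← commutator_def]
      exact FischerUnique.quasisimple_H.1.commutator_eq_top
    obtain ⟨n, hn, hn'⟩ : ρ g ∈ (commutator K0).map ρ := hN ▸ Subgroup.mem_top _
    have h1 : ρ (g * n⁻¹) = 1 := by rw [map_mul, map_inv, hn', mul_inv_cancel]
    have h2 : g * n⁻¹ ∈ commutator K0 := by
      rcases (hρ1 _).1 h1 with e | e
      · rw [show g * n⁻¹ = 1 from Subtype.ext e]; exact one_mem _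
      · rw [show g * n⁻¹ = ⟨Fi23.z, hz⟩ from Subtype.ext e]; exact zK_mem_commutator
    have := mul_mem h2 hn
    rwa [inv_mul_cancel_right] at this
  · exact eq.isSimpleGroup_congr.2 FischerUnique.isSimple_psu

universe u

variable {G : Type u} [Group G] [Finite G] {D : Set G}

/-- The joint centraliser of two commuting transpositions in a group of type M(23). -/
theorem pair_facts (hT : Cfsg.IsThreeTranspositionGroup D) (hprim : Cfsg.IsPrimitiveUnderConj D)
    (ht : Cfsg.IsOfTypeM23 G D) {d₁ d₂ : G} (h₁ : d₁ ∈ D) (h₂ : d₂ ∈ D) (hne : d₁ ≠ d₂)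
    (hc : Commute d₁ d₂) {K V : Subgroup G} (hK : K = Subgroup.centralizer ({d₁, d₂} : Set G))
    (hV : V = Subgroup.closure ({d₁, d₂} : Set G)) :
    (Subgroup.center K).map K.subtype = V ∧ Cfsg.IsQuasisimple K ∧
      Nonempty (K ⧸ Subgroup.center K ≃* Cfsg.PSU 6 K4 2) := by
  obtain ⟨Φ, hΦ⟩ := exists_iso hT hprim ht
  obtain ⟨y, hy, rfl⟩ := hΦ.ge h₁
  obtain ⟨g, rfl⟩ := Fi23.mem_D.1 hy
  have ha : Φ (g * gT 0 * g⁻¹) ∈ D := hΦ.le ⟨_, D23_group.2.1 g _ (gen_nb 0 (by norm_num)).1, rfl⟩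
  have hw : ∃ a ∈ D, ∃ b ∈ D, a ≠ b ∧ Commute a b := ⟨_, h₁, d₂, h₂, hne, hc⟩
  obtain ⟨k, hk, hk2⟩ := Fischer.prim_trans_commuting hT hprim hw h₁ (Φ (g * gT 0 * g⁻¹))
    ⟨ha, fun e => (gen_nb 0 (by norm_num)).2.1 (by simpa using Φ.injective e), by
      have h0 : Commute Fi23.z (gT 0) := z_comm_a
      exact (h0.map (MulAut.conj g).toMonoidHom).map Φ.toMonoidHom⟩ d₂ ⟨h₂, hne.symm, hc⟩
  have hk1 : Commute k (Φ (g * Fi23.z * g⁻¹)) := by
    refine Subgroup.mem_centralizer_singleton_iff.1 ((Subgroup.closure_le _).2 (fun w hw => ?_) hk)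
    exact Subgroup.mem_centralizer_singleton_iff.2 hw.2.2.symm.eq
  obtain ⟨T, hTd⟩ : ∃ T : GT ≃* G, T = ((MulAut.conj g).trans Φ).trans (MulAut.conj k) := ⟨_, rfl⟩
  have hTz : T Fi23.z = Φ (g * Fi23.z * g⁻¹) := by
    rw [hTd]
    show k * Φ (g * Fi23.z * g⁻¹) * k⁻¹ = _
    rw [hk1.eq, mul_inv_cancel_right]
  have hTa : T (gT 0) = d₂ := by rw [hTd]; exact hk2
  rw [← hTz, ← hTa] at hK hV
  have himg : ({T Fi23.z, T (gT 0)} : Set G) = T '' {Fi23.z, gT 0} := (Set.image_pair _ _ _).symm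
  have hmap : K = K0.map T.toMonoidHom := by
    rw [hK, himg]
    ext x
    obtain ⟨w, rfl⟩ := T.surjective x
    simp only [Subgroup.mem_map_equiv, T.symm_apply_apply, Subgroup.mem_centralizer_iff, K0,
      Set.forall_mem_image, ← map_mul, T.injective.eq_iff]
  obtain ⟨E, hE⟩ : ∃ E : K0 ≃* K, ∀ x : K0, (E x : G) = T x :=
    ⟨(MulEquiv.subgroupMap T K0).trans (MulEquiv.subgroupCongr hmap.symm), fun x => rfl⟩
  have hEc : (Subgroup.center K0).map E.toMonoidHom = Subgroup.center K := by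
    ext x
    obtain ⟨w, rfl⟩ := E.surjective x
    rw [Subgroup.mem_map_equiv, E.symm_apply_apply, Subgroup.mem_center_iff, Subgroup.mem_center_iff]
    exact ⟨fun h k => by obtain ⟨k, rfl⟩ := E.surjective k; rw [← map_mul, ← map_mul, h k],
      fun h k => E.injective (by rw [map_mul, map_mul, h (E k)])⟩
  obtain ⟨hc0, hq, ⟨eq⟩⟩ := pair_model
  refine ⟨?_, ClassBasic.isQuasisimple_of_mulEquiv E hq, ⟨(QuotientGroup.congr _ _ E hEc).symm.trans eq⟩⟩
  have hcomp : K.subtype.comp E.toMonoidHom = T.toMonoidHom.comp K0.subtype := MonoidHom.ext hE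
  rw [← hEc, Subgroup.map_map, hcomp, ← Subgroup.map_map, hc0, MonoidHom.map_closure, hV, himg]
  rfl

end Cfsg.Agent.FischerUnique23
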