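import Cfsg.Agent.Lib.FischerUnique23.Block
import Cfsg.Agent.Lib.FischerUnique.Presented
import Cfsg.Agent.Lib.Fischer.TypeMNoRel
import Cfsg.Agent.Lib.Fi22Local.Basic

/-!
In a primitive group of type M(23) the neighbours of every transposition carry the labels of the 3510
transpositions of Fi22.
-/

set_option autoImplicit false
set_option maxRecDepth 100000

namespace Cfsg.Agent.FischerUnique23

open Cfsg.Agent.CosetCert
open Cfsg.Agent.Fischer.Factor
open Cfsg.Agent.FischerUnique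
open Cfsg.Agent.Fi22Local
open Cfsg.Agent.FischerPresented

universe u

variable {G : Type u} [Group G] {D : Set G}

/-- A labelling of the neighbours of `t`. -/
structure Lab (D : Set G) (t : G) (L : ℕ → G) : Prop where
  mem : ∀ p < 3510, L p ∈ Nb D t
  surj : ∀ y ∈ Nb D t, ∃ p < 3510, L p = y
  inj : ∀ p < 3510, ∀ q < 3510, L p = L q → p = q
  comm : ∀ p < 3510, ∀ q < 3510, Commute (L p) (L q) ↔ tapp p q = q
  conj : ∀ p < 3510, ∀ q < 3510, L (tapp p q) = L p * L q * (L p)⁻¹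

theorem Lab.reindex {t : G} {L : ℕ → G} (h : Lab D t L) (g : GG) : Lab D t (fun p => L (apt g p)) where
  mem p hp := h.mem _ (apt_lt g hp)
  surj y hy := by
    obtain ⟨p, hp, rfl⟩ := h.surj y hy
    exact ⟨apt g⁻¹ p, apt_lt _ hp, by show L (apt g (apt g⁻¹ p)) = _; rw [← apt_mul, mul_inv_cancel, apt_one]⟩
  inj p hp q hq e := apt_injective g (h.inj _ (apt_lt g hp) _ (apt_lt g hq) e)
  comm p hp q hq := by
    rw [h.comm _ (apt_lt g hp) _ (apt_lt g hq), ← apt_tapp g hp hq]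
    exact ⟨fun e => apt_injective g e, fun e => by rw [e]⟩
  conj p hp q hq := by
    show L (apt g (tapp p q)) = _
    rw [apt_tapp g hp hq, h.conj _ (apt_lt g hp) _ (apt_lt g hq)]

theorem exists_to_zero {p : ℕ} (hp : p < 3510) : ∃ g : GG, apt g 0 = p := by
  have h := allBelow_spec pathW_ok hp
  simp only [Bool.and_eq_true, Nat.beq_eq] at h
  exact ⟨el (pathW p), by rw [apt_el h.1 (by norm_num)]; exact h.2⟩

theorem tapp_self_iff {p q : ℕ} (hp : p < 3510) (hq : q < 3510) :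
    tapp p q = q ↔ Commute (trN p) (trN q) := by
  rw [← apt_fix_iff _ hq, apt_trN hp hq]

theorem trN_tapp {p q : ℕ} (hp : p < 3510) (hq : q < 3510) :
    trN (tapp p q) = trN p * trN q * (trN p)⁻¹ := by
  rw [← apt_trN hp hq, trN_apt _ hq]

variable [Finite G]

/-- The hypotheses of type M(22) at the quotient of a type M(23) group. -/
theorem local_m22 (hT : Cfsg.IsThreeTranspositionGroup D) (hprim : Cfsg.IsPrimitiveUnderConj D)
    (ht : Cfsg.IsOfTypeM23 G D) : ∃ d ∈ D, Cfsg.IsThreeTranspositionGroup (img D d) ∧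
      Cfsg.IsPrimitiveUnderConj (img D d) ∧ Common (img D d) ∧ TwinFree (img D d) ∧
      Cfsg.IsOfTypeM22 (Q D d) (img D d) := by
  have hfree : TwinFree D := fun d v hd hs => Fischer.prim_sameComm_trivial hT hprim hd hs
  obtain ⟨-, d, hd, c, -, -, h22, -⟩ := ht
  have h22' : Cfsg.IsOfTypeM22 (Q D d) (img D d) := h22
  obtain ⟨hz, f, hf, hq, p, hp, q, hqn, hpq⟩ := m22_facts h22'
  obtain ⟨F, hF, rfl⟩ := img_lift hf
  obtain ⟨P, hP, rfl⟩ := img_lift hp.1
  obtain ⟨R, hR, rfl⟩ := img_lift hqn.1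
  have hPR : ¬ Commute (P : G) (R : G) := fun h => hpq ((mk_commute_iff hT.1 hP.1 hR.1).2 h)
  have cFP : Commute (F : G) P := (mk_commute_iff hT.1 hF.1 hP.1).1 hp.2.2
  have cFR : Commute (F : G) R := (mk_commute_iff hT.1 hF.1 hR.1).1 hqn.2.2
  have hcom : Common (img D d) := common_img hT hprim hfree hP.1 hR.1 hd hF.1 hPR hF.2.1.symm hF.2.2
    hP.2.2 hR.2.2 cFP cFR hd
  have hTq := img_group hT hprim.1 hfree hd
  have hw : ∃ a ∈ D, ∃ b ∈ D, a ≠ b ∧ Commute a b := ⟨d, hd, P, hP.1, hP.2.1.symm, hP.2.2⟩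
  have htr := img_trans (Fischer.prim_trans_commuting hT hprim hw hd)
  have hfree1 := twinFree_of_common hTq htr hcom hz hf hq
  refine ⟨d, hd, hTq, ?_, hcom, hfree1, h22'⟩
  have core2 : Cfsg.pCore 2 (Q D d) = ⊥ := by
    rw [eq_bot_iff, ← hz]
    haveI : (Cfsg.pCore 2 (Q D d)).Normal := Cfsg.pCore_normal 2 _
    intro g hg
    refine Fischer.mem_center_of_commute_gen hTq.2.2 fun e he => ?_
    have h := Fischer.mul_conj_mem (d := e) hg
    rw [Fischer.TSet.inv hTq.1 he] at h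
    have := hfree1 e _ he ((Fischer.sameComm_iff hTq he).2 ⟨hTq.2.1 g e he, h⟩)
    exact mul_inv_eq_iff_eq_mul.1 this
  have hq3 : ∀ f ∈ img D d, Cfsg.pCore 3 (Q (img D d) f) = ⊥ := by
    intro f hf
    obtain ⟨g, rfl⟩ : ∃ g, g * (QuotientGroup.mk F : Q D d) * g⁻¹ = f := htr _ ⟨F, hF, rfl⟩ f hf
    obtain ⟨-, d', hd', c', -, -, ⟨K, iK, iKK, hK, ⟨e⟩⟩, -⟩ := h22'
    refine pCore_quotient_center (core_transport hTq htr hd' (hTq.2.1 g _ ⟨F, hF, rfl⟩) ?_)
    obtain ⟨ψ⟩ := nonempty_psu_model hK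
    have hs := isSimple_psu
    have h3 : Cfsg.pCore 3 (Q (img D d) d') = ⊥ := by
      refine core_of_iso (e.trans ψ) ?_
      haveI : (Cfsg.pCore 3 (Cfsg.PSU 6 Cfsg.Agent.RigidGraph.He.K4 2)).Normal := Cfsg.pCore_normal 3 _
      refine (Subgroup.Normal.eq_bot_or_eq_top inferInstance).resolve_right fun h => ?_
      haveI := Fact.mk Nat.prime_three
      have hp3 := PBasic.pCore_isPGroup 3 (Cfsg.PSU 6 Cfsg.Agent.RigidGraph.He.K4 2)
      rw [h] at hp3
      haveI : Nontrivial (Cfsg.PSU 6 Cfsg.Agent.RigidGraph.He.K4 2) := inferInstance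
      have hp3' : IsPGroup 3 (Cfsg.PSU 6 Cfsg.Agent.RigidGraph.He.K4 2) := hp3.of_equiv Subgroup.topEquiv
      haveI := hp3'.center_nontrivial
      exact (Subgroup.nontrivial_iff_ne_bot _).1 this U62.center_psu
    haveI := (inferInstance : (Subgroup.center ↥(Subgroup.closure (Nb (img D d) d'))).Normal)
    intro g hg
    refine (QuotientGroup.eq_one_iff g).1 ?_
    rw [← Subgroup.mem_bot, ← h3]
    exact PBasic.map_pCore_le_of_surjective (QuotientGroup.mk' _) (QuotientGroup.mk'_surjective _) ⟨g, hg, rfl⟩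
  refine primitive_of_common hTq htr hcom ⟨_, hp.1, _, hqn.1, fun e => hpq (by rw [e])⟩ core2 ?_
  rw [eq_bot_iff, ← hz]
  haveI : (Cfsg.pCore 3 (Q D d)).Normal := Cfsg.pCore_normal 3 _
  intro g hg
  refine Fischer.mem_center_of_commute_gen hTq.2.2 fun e he => ?_
  have h := Fischer.mul_conj_mem (d := e) hg
  rw [Fischer.TSet.inv hTq.1 he] at h
  have hs : Fischer.SameNbr (img D d) e (g * e * g⁻¹) :=
    (Fischer.sameNbr_iff hTq he).2 ⟨hTq.2.1 g e he, h⟩
  refine mul_inv_eq_iff_eq_mul.1 ?_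
  by_contra hne
  obtain ⟨g', hg'⟩ := htr _ hp.1 e he
  have hf0 : g' * (QuotientGroup.mk F : Q D d) * g'⁻¹ ∈ Nb (img D d) e := by
    rw [← hg']
    refine nb_conj hTq g' ⟨⟨F, hF, rfl⟩, fun h => ?_, (mk_commute_iff hT.1 hP.1 hF.1).2 cFP.symm⟩
    exact hp.2.1 h.symm
  set f₀ := g' * (QuotientGroup.mk F : Q D d) * g'⁻¹
  set w := g * e * g⁻¹
  have hw0 := (hs.2 f₀ hf0.1).1 hf0.2
  have he0 : e ∈ Nb (img D d) f₀ := ⟨he, hf0.2.1.symm, hf0.2.2.symm⟩
  have hw1 : w ∈ Nb (img D d) f₀ := ⟨hs.1, hw0.1.symm, hw0.2.symm⟩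
  have hg2 := img_group hTq htr hfree1 hf0.1
  set E : ↥(Subgroup.closure (Nb (img D d) f₀)) := ⟨e, nb_subset he0⟩
  set W : ↥(Subgroup.closure (Nb (img D d) f₀)) := ⟨w, nb_subset hw1⟩
  have hsame : Fischer.SameNbr (img (img D d) f₀) (QuotientGroup.mk E) (QuotientGroup.mk W) := by
    refine ⟨⟨W, hw1, rfl⟩, ?_⟩
    rintro _ ⟨Y, hY, rfl⟩
    have n1 : ∀ {Z : ↥(Subgroup.closure (Nb (img D d) f₀))}, (Z : Q D d) ∈ Nb (img D d) f₀ →
        ((QuotientGroup.mk Y : Q (img D d) f₀) ≠ QuotientGroup.mk Z ↔ (Y : Q D d) ≠ Z) := fun {Z} hZ =>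
      ⟨fun h e => h (congrArg QuotientGroup.mk (Subtype.ext e)),
        fun h e => h (congrArg Subtype.val (img_inj hTq htr hfree1 hf0.1 hY hZ e))⟩
    rw [n1 (Z := E) he0, n1 (Z := W) hw1, mk_commute_iff hTq.1 he hY.1, mk_commute_iff hTq.1 hs.1 hY.1]
    exact hs.2 _ hY.1
  have hm := hsame.mul_mem_pCore hg2 ⟨E, he0, rfl⟩
  rw [hq3 f₀ hf0.1, Subgroup.mem_bot] at hm
  have := img_inj hTq htr hfree1 hf0.1 he0 hw1
    ((eq_inv_of_mul_eq_one_left hm).trans (Fischer.TSet.inv hg2.1 ⟨W, hw1, rfl⟩))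
  exact hne (congrArg Subtype.val this).symm

/-- Labellings of the neighbours, labellings inside Fi22, and common neighbours in Fi22 and `G`. -/
theorem exists_lab (hT : Cfsg.IsThreeTranspositionGroup D) (hprim : Cfsg.IsPrimitiveUnderConj D)
    (ht : Cfsg.IsOfTypeM23 G D) : (∀ t ∈ D, ∃ L, Lab D t L) ∧
      (∀ z ∈ Fi22Class.D, Nonempty (View Fi22Class.D z)) ∧ Common Fi22Class.D ∧ Common D := by
  classical
  have hfree : TwinFree D := fun d v hd hs => Fischer.prim_sameComm_trivial hT hprim hd hs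
  obtain ⟨d, hd, hTq, hpq, hcq, hfq, h22⟩ := local_m22 hT hprim ht
  obtain ⟨Φ, hΦ⟩ := exists_iso hTq hpq h22
  have hΦ' : Φ.symm '' img D d = Fi22Class.D := by
    rw [← hΦ, ← Set.image_comp]
    exact (Set.image_congr fun x _ => Φ.symm_apply_apply x).trans (Set.image_id _)
  have key : ∀ p, ∃ y : G, p < 3510 → ∃ h : y ∈ Nb D d,
      (QuotientGroup.mk ⟨y, nb_subset h⟩ : Q D d) = Φ (trN p) := fun p => by
    by_cases hp : p < 3510
    · obtain ⟨x, hx, e⟩ := img_lift (hΦ.le ⟨_, trN_mem hp, rfl⟩)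
      exact ⟨x, fun _ => ⟨hx, e⟩⟩
    · exact ⟨1, fun h => absurd h hp⟩
  choose L hL using key
  have hinj : ∀ {x y : G} (hx : x ∈ Nb D d) (hy : y ∈ Nb D d),
      (QuotientGroup.mk ⟨x, nb_subset hx⟩ : Q D d) = QuotientGroup.mk ⟨y, nb_subset hy⟩ → x = y :=
    fun hx hy e => congrArg Subtype.val (img_inj hT hprim.1 hfree hd
      (x := ⟨_, nb_subset hx⟩) (y := ⟨_, nb_subset hy⟩) hx hy e)
  have hlab : Lab D d L := by
    refine ⟨fun p hp => (hL p hp).1, fun y hy => ?_, fun p hp q hq e => ?_, fun p hp q hq => ?_,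
      fun p hp q hq => ?_⟩
    · obtain ⟨w, hw, e⟩ := hΦ.ge ⟨⟨y, nb_subset hy⟩, hy, rfl⟩
      obtain ⟨p, hp, rfl⟩ := exists_trN hw
      obtain ⟨h, e'⟩ := hL p hp
      exact ⟨p, hp, hinj h hy (e'.trans e)⟩
    · obtain ⟨h, e1⟩ := hL p hp
      obtain ⟨h', e2⟩ := hL q hq
      refine trN_inj hp hq (Φ.injective ?_)
      rw [← e1, ← e2]
      exact congrArg QuotientGroup.mk (Subtype.ext e)
    · obtain ⟨h, e1⟩ := hL p hp
      obtain ⟨h', e2⟩ := hL q hq
      refine Iff.trans (mk_commute_iff hT.1 (x := ⟨_, nb_subset h⟩) (y := ⟨_, nb_subset h'⟩) h.1 h'.1).symm ?_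
      rw [e1, e2, tapp_self_iff hp hq]
      exact ⟨fun hc => by simpa using hc.map Φ.symm.toMonoidHom, fun hc => hc.map Φ.toMonoidHom⟩
    · obtain ⟨h, e1⟩ := hL p hp
      obtain ⟨h', e2⟩ := hL q hq
      obtain ⟨h'', e3⟩ := hL _ (tapp_lt hp hq)
      have hc : L p * L q * (L p)⁻¹ ∈ Nb D d := by
        have := nb_conj hT (L p) h'
        rwa [Fischer.conj_eq_self_of_commute h.2.2.symm] at this
      refine hinj h'' hc ?_
      rw [e3, trN_tapp hp hq, map_mul, map_mul, map_inv, ← e1, ← e2]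
      rfl
  have hV : ∀ z ∈ Fi22Class.D, Nonempty (View Fi22Class.D z) := by
    intro z hz
    obtain ⟨A⟩ := views hTq hpq h22 _ (hΦ.le ⟨z, hz, rfl⟩)
    exact ⟨Φ.symm_apply_apply z ▸ viewMap Φ.symm hΦ' A⟩
  have hc22 : Common Fi22Class.D := by
    intro b hb y hy hby
    obtain ⟨r, hr, h1, h2⟩ := hcq _ (hΦ.le ⟨b, hb, rfl⟩) _ (hΦ.le ⟨y, hy, rfl⟩) fun h => hby (by
      simpa using h.map Φ.symm.toMonoidHom)
    refine ⟨Φ.symm r, hΦ'.le ⟨r, hr, rfl⟩, ?_, ?_⟩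
    · simpa using h1.map Φ.symm.toMonoidHom
    · simpa using h2.map Φ.symm.toMonoidHom
  refine ⟨fun t ht' => ?_, hV, hc22, ?_⟩
  · obtain ⟨g, rfl⟩ := hprim.1 d hd t ht'
    refine ⟨fun p => g * L p * g⁻¹, fun p hp => nb_conj hT g (hlab.mem p hp), fun y hy => ?_,
      fun p hp q hq e => hlab.inj p hp q hq (mul_left_cancel (mul_right_cancel e)),
      fun p hp q hq => (Fischer.commute_conj_iff g _ _).trans (hlab.comm p hp q hq), fun p hp q hq => ?_⟩
    · have hy' := nb_conj hT g⁻¹ hy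
      rw [inv_inv, show g⁻¹ * (g * d * g⁻¹) * g = d by group] at hy'
      obtain ⟨p, hp, e⟩ := hlab.surj _ hy'
      exact ⟨p, hp, by show g * L p * g⁻¹ = y; rw [e]; group⟩
    · show g * L (tapp p q) * g⁻¹ = _
      rw [hlab.conj p hp q hq]; group
  · intro b hb y hy hby
    obtain ⟨g, hg⟩ := hprim.1 (L 0) (hlab.mem 0 (by norm_num)).1 b hb
    have h2 : ¬ Commute (L 0) (L 2) := fun h =>
      absurd ((hlab.comm 0 (by norm_num) 2 (by norm_num)).1 h) (by decide +kernel)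
    have hnc : ¬ Commute b (g * L 2 * g⁻¹) := fun h => h2 (by rwa [← hg, Fischer.commute_conj_iff] at h)
    obtain ⟨m, hm, hmy⟩ := Fischer.prim_trans_noncommuting hT hprim
      ⟨d, hd, L 0, (hlab.mem 0 (by norm_num)).1, (hlab.mem 0 (by norm_num)).2.1.symm,
        (hlab.mem 0 (by norm_num)).2.2⟩ hb
      (g * L 2 * g⁻¹) (hT.2.1 _ _ (hlab.mem 2 (by norm_num)).1) y hy hnc hby
    have hmb : m * b * m⁻¹ = b :=
      Fischer.conj_eq_self_of_commute (Fischer.commute_of_mem_commClosure hm)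
    refine ⟨m * g * d * (m * g)⁻¹, hT.2.1 _ _ hd, ?_, ?_⟩
    · rw [← hmb, ← hg, show m * (g * L 0 * g⁻¹) * m⁻¹ = m * g * L 0 * (m * g)⁻¹ by group]
      exact (Fischer.commute_conj_iff _ _ _).2 (hlab.mem 0 (by norm_num)).2.2
    · rw [← hmy, show m * (g * L 2 * g⁻¹) * m⁻¹ = m * g * L 2 * (m * g)⁻¹ by group]
      exact (Fischer.commute_conj_iff _ _ _).2 (hlab.mem 2 (by norm_num)).2.2

end Cfsg.Agent.FischerUnique23
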