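import Cfsg.Agent.Lib.FischerUnique.View

/-!
In a group of type M(22): of the four further points on a line through a common neighbour of two
non-commuting transpositions exactly one is a common neighbour.
-/

set_option autoImplicit false
set_option maxRecDepth 100000

namespace Cfsg.Agent.FischerUnique23

open Cfsg.Agent.CosetCert
open Cfsg.Agent.RigidGraph.He
open Cfsg.Agent.Fischer.Factor
open Cfsg.Agent.FischerUnique

universe u

variable {G : Type u} [Group G] [Finite G] {D : Set G}

/-- Transporting a labelling along an isomorphism. -/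
def viewMap {H : Type*} [Group H] {E : Set H} (e : G ≃* H) (he : e '' D = E) {a : G} (A : View D a) :
    View E (e a) :=
  have hback : ∀ x ∈ Nb E (e a), e.symm x ∈ Nb D a := fun x hx => by
    obtain ⟨h1, h2, h3⟩ := hx
    obtain ⟨w, hw, rfl⟩ := he.ge h1
    rw [e.symm_apply_apply]
    refine ⟨hw, fun h => h2 (by rw [h]), ?_⟩
    have := h3.map e.symm.toMonoidHom
    simpa using this
  { toVec := fun x => A.toVec (e.symm x)
    isPoint := fun x hx => A.isPoint _ (hback x hx)
    comm := fun x hx y hy => by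
      rw [← A.comm _ (hback x hx) _ (hback y hy)]
      exact ⟨fun h => h.map e.symm.toMonoidHom, fun h => by simpa using h.map e.toMonoidHom⟩
    inj := fun x hx y hy k h => e.symm.injective (A.inj _ (hback x hx) _ (hback y hy) k h)
    surj := fun v h0 hv => by
      obtain ⟨x, hx, k, hk, h⟩ := A.surj v h0 hv
      exact ⟨e x, ⟨he.le ⟨x, hx.1, rfl⟩, fun h' => hx.2.1 (e.injective h'), hx.2.2.map e.toMonoidHom⟩, k, hk,
        by rw [e.symm_apply_apply, h]⟩
    conj := fun x hx y hy => by
      obtain ⟨k, hk, h⟩ := A.conj _ (hback x hx) _ (hback y hy)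
      exact ⟨k, hk, by rw [map_mul, map_mul, map_inv, h]⟩ }

/-- Of the four points exactly one commutes with the second transposition. -/
theorem block_count (hT : Cfsg.IsThreeTranspositionGroup D) (hV : ∀ z ∈ D, Nonempty (View D z))
    {u v s : G} (hu : u ∈ D) (hv : v ∈ D) (huv : ¬ Commute u v) (hs : s ∈ Nb D u) (hsv : Commute v s)
    (y : Fin 4 → G) (hy : ∀ i, y i ∈ Nb D u) (hsy : ∀ i, Commute s (y i) ∧ s ≠ y i)
    (hyy : ∀ i j, i ≠ j → y i ≠ y j)
    (hmax : ∀ z ∈ Nb D u, Commute z s → Commute z (y 0) → ∀ i, Commute z (y i)) :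
    ∃! i, Commute v (y i) := by
  obtain ⟨A⟩ := hV u hu
  have hS := isCommonSet hT hV hu hv huv A
  obtain ⟨s0, s1⟩ := A.isPoint s hs
  set σ := A.toVec s
  set η := A.toVec (y 0) with hη
  obtain ⟨η0, η1⟩ := A.isPoint _ (hy 0)
  have horth : ∀ i, hf (A.toVec (y i)) σ = 0 := fun i => (A.comm _ (hy i) s hs).1 (hsy i).1.symm
  have hηne : ∀ k : K4, η ≠ k • σ := fun k e => (hsy 0).2 (A.inj _ (hy 0) s hs k e).symm
  have hind : ∀ k : K4, η + k • σ ≠ 0 := fun k e => hηne k (by
    rw [add_eq_zero_iff_eq_neg] at e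
    exact e.trans (funext fun _ => rfl))
  have hline : ∀ i, ∃ β : K4, β ≠ 0 ∧ ∃ k : K4, A.toVec (y i) = β • (η + k • σ) := by
    intro i
    obtain ⟨i0, i1⟩ := A.isPoint _ (hy i)
    have hy0 : Commute (y i) (y 0) := hmax (y i) (hy i) (hsy i).1.symm (by
      by_cases e : i = 0
      · rw [e]
      · exact hmax (y i) (hy i) (hsy i).1.symm (hmax (y 0) (hy 0) (hsy 0).1.symm (Commute.refl _) i).symm 0) 0
    obtain ⟨α, β, e⟩ := same_line s0 s1 η0 η1 i0 i1 (horth 0) (horth i)
      ((A.comm _ (hy i) _ (hy 0)).1 hy0) hηne (fun z z0 z1 zs zne zx => by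
        obtain ⟨t, ht, m, hm, et⟩ := A.surj z z0 z1
        have c1 : Commute t s := (A.comm t ht s hs).2 (by rw [et, hf_smul_left, zs, mul_zero])
        have c2 : Commute t (y 0) := (A.comm t ht _ (hy 0)).2 (by rw [et, hf_smul_left, zx, mul_zero])
        have c3 := (A.comm t ht _ (hy i)).1 (hmax t ht c1 c2 i)
        rw [et, hf_smul_left, mul_eq_zero] at c3
        exact c3.resolve_left hm)
    have hβ : β ≠ 0 := fun b0 => (hsy i).2 (A.inj _ (hy i) s hs α (by rw [e, b0, zero_smul, add_zero])).symm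
    exact ⟨β, hβ, β⁻¹ * α, by rw [e, smul_add, smul_smul, mul_inv_cancel_left₀ hβ, add_comm]⟩
  choose β hβ k hk using hline
  have hkinj : Function.Injective k := fun i j e => by
    by_contra hij
    refine hyy i j hij (A.inj _ (hy i) _ (hy j) (β i * (β j)⁻¹) ?_)
    rw [hk i, hk j, e, smul_smul, inv_mul_cancel_right₀ (hβ j)]
  have hksurj : Function.Surjective k :=
    ((Fintype.bijective_iff_injective_and_card k).2 ⟨hkinj, by rw [K4.card_K4, Fintype.card_fin]⟩).2
  have hmem : ∀ i, comSet A v (η + k i • σ) ↔ Commute v (y i) := fun i => by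
    refine ⟨fun h => of_comSet A (hy i) ?_, fun h => ?_⟩
    · rw [hk i]; exact hS.scale _ _ (hβ i) h
    · have := hS.scale _ _ (inv_ne_zero (hβ i)) (comSet_toVec A (hy i) h)
      rwa [hk i, smul_smul, inv_mul_cancel₀ (hβ i), one_smul] at this
  obtain ⟨c, hc⟩ := hS.lineEx σ η (comSet_toVec A hs hsv) η1 (horth 0) hind
  obtain ⟨i, rfl⟩ := hksurj c
  refine ⟨i, (hmem i).1 hc, fun j hj => ?_⟩
  by_contra hij
  have hdiff : k i + k j ≠ 0 := fun e => hij (hkinj (by
    rw [add_eq_zero_iff_eq_neg] at e; exact (e.trans rfl).symm))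
  refine hS.lineUniq σ (η + k i • σ) (k i + k j) (comSet_toVec A hs hsv) hc ?_ (fun m e => ?_) hdiff ?_
  · rw [hf_add_left, hf_smul_left, horth 0, s1, mul_zero, add_zero]
  · exact hind (k i + m) (by rw [add_smul, ← add_assoc]; exact e)
  · rw [add_assoc, ← add_smul, ← add_assoc, K4.add_self, zero_add]
    exact (hmem j).2 hj

end Cfsg.Agent.FischerUnique23
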