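import Cfsg.Agent.Lib.FischerUnique23.Rules
import Cfsg.Agent.Lib.FischerUnique.Normal

/-!
Paths of six in the neighbourhood of the first coset of the presented Fi22: three kinds up to the stabiliser.
-/

set_option autoImplicit false
set_option maxRecDepth 100000

namespace Cfsg.Agent.FischerUnique23

open Cfsg.Agent.CosetCert
open Cfsg.Agent.Fi22Local
open Cfsg.Agent.FischerUnique (adjP)

/-- The three paths. -/
def finals : List (List ℕ) :=
  [[7, 8, 50, 105, 107, 108], [7, 8, 50, 105, 137, 108], [7, 8, 50, 105, 1067, 108]]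

/-- A continuation of a path. -/
noncomputable def contB (P : List ℕ) (q : ℕ) : Bool :=
  Nat.beq (tapp 0 q) q && !Nat.beq q 0 && (List.range P.length).all fun i =>
    bif Nat.beq (i + 1) P.length then !Nat.beq (tapp (P.getD i 0) q) q
    else Nat.beq (tapp (P.getD i 0) q) q && !Nat.beq q (P.getD i 0)

/-- Node `t` of an orbit list. -/
noncomputable def nodeB (P reps : List ℕ) (l : List (ℕ × ℕ × ℕ)) (t : ℕ) : Bool :=
  let n := l.getD t (0, 0, 0)
  bif Nat.beq n.2.2 t then memB n.1 reps
  else Nat.blt n.2.2 t && Nat.blt n.2.1 3510 && Nat.blt n.1 3510 &&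
    Nat.beq (tapp n.2.1 n.1) (l.getD n.2.2 (0, 0, 0)).1 && Nat.beq (tapp n.2.1 0) 0 &&
    P.all fun p => Nat.blt p 3510 && Nat.beq (tapp n.2.1 p) p

/-- One entry. -/
noncomputable def entryB (e : List ℕ × List ℕ × List (ℕ × ℕ × ℕ)) : Bool :=
  allBelow (fun q => bif contB e.1 q then e.2.2.any (fun n => Nat.beq n.1 q) else true) 3510 &&
    allBelow (fun t => nodeB e.1 e.2.1 e.2.2 t) e.2.2.length &&
    e.2.1.all fun r => (steps.any fun e' => wordEq (e.1 ++ [r]) e'.1) || finals.any fun f => wordEq (e.1 ++ [r]) f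

theorem entries_ok : (steps.all entryB) = true := by decide +kernel

theorem steps_shape : (((steps.map fun e => e.1).any fun P => wordEq P []) &&
    (steps.all fun e => Nat.blt e.1.length 6) && (finals.all fun f => Nat.beq f.length 6)) = true := by
  decide +kernel

theorem node_reach {e : List ℕ × List ℕ × List (ℕ × ℕ × ℕ)}
    (h : ∀ t < e.2.2.length, nodeB e.1 e.2.1 e.2.2 t = true) :
    ∀ t < e.2.2.length, ∃ g : GG, apt g 0 = 0 ∧ (∀ p ∈ e.1, apt g p = p) ∧
      apt g (e.2.2.getD t (0, 0, 0)).1 ∈ e.2.1 := by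
  intro t
  induction t using Nat.strong_induction_on with
  | _ t ih =>
    intro ht
    have hn := h t ht
    simp only [nodeB] at hn
    by_cases hr : Nat.beq (e.2.2.getD t (0, 0, 0)).2.2 t = true
    · rw [hr, cond_true] at hn
      exact ⟨1, apt_one 0, fun p _ => apt_one p, by rw [apt_one]; exact mem_of_memB hn⟩
    rw [Bool.eq_false_iff.2 hr, cond_false] at hn
    simp only [Bool.and_eq_true, Nat.blt_eq, Nat.beq_eq, List.all_eq_true] at hn
    obtain ⟨⟨⟨⟨⟨hc, hu⟩, hp⟩, he⟩, h0⟩, hP⟩ := hn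
    obtain ⟨g, g0, gP, gr⟩ := ih _ hc (by omega)
    refine ⟨g * trN (e.2.2.getD t (0, 0, 0)).2.1, ?_, fun p hp' => ?_, ?_⟩
    · rw [apt_mul, apt_trN hu (by norm_num), h0, g0]
    · rw [apt_mul, apt_trN hu (hP p hp').1, (hP p hp').2, gP p hp']
    · rw [apt_mul, apt_trN hu hp, he]; exact gr

/-- Six cosets forming a path at the first one can be moved to one of three paths. -/
theorem exists_path_kind (r : ℕ → ℕ)
    (hr : ∀ i < 6, r i < 3510 ∧ tapp 0 (r i) = r i ∧ r i ≠ 0)
    (hadj : ∀ i < 6, ∀ j < 6, i < j → (tapp (r i) (r j) = r j ↔ adjP i j = false) ∧ r i ≠ r j) :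
    ∃ g : GG, apt g 0 = 0 ∧ ∃ f ∈ finals, ∀ i < 6, apt g (r i) = f.getD i 0 := by
  have hsh := steps_shape
  simp only [Bool.and_eq_true, List.any_eq_true, List.all_eq_true, List.mem_map, Nat.blt_eq,
    Nat.beq_eq] at hsh
  obtain ⟨⟨hroot, hlen⟩, hfin⟩ := hsh
  suffices key : ∀ k ≤ 6, ∃ g : GG, apt g 0 = 0 ∧ ∃ P, P.length = k ∧
      ((∃ e ∈ steps, e.1 = P) ∨ P ∈ finals) ∧ ∀ i < k, apt g (r i) = P.getD i 0 by
    obtain ⟨g, g0, P, hP, hPm, hfix⟩ := key 6 le_rfl
    refine ⟨g, g0, P, hPm.resolve_left ?_, hfix⟩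
    rintro ⟨e, he, rfl⟩
    have := hlen e he
    omega
  intro k
  induction k with
  | zero =>
    intro _
    obtain ⟨_, ⟨e, he, rfl⟩, hw⟩ := hroot
    have := eq_of_wordEq hw
    exact ⟨1, apt_one 0, e.1, by rw [this]; rfl, Or.inl ⟨e, he, rfl⟩, fun i hi => absurd hi (Nat.not_lt_zero i)⟩
  | succ k ih =>
    intro hk
    obtain ⟨g, g0, P, hPl, hPm, hfix⟩ := ih (by omega)
    obtain ⟨e, he, rfl⟩ := hPm.resolve_right fun h => by have := hfin P h; omega
    have hok := List.all_eq_true.1 entries_ok e he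
    simp only [entryB, Bool.and_eq_true] at hok
    obtain ⟨⟨hall, hnodes⟩, hnext⟩ := hok
    obtain ⟨hlt, h0, hne⟩ := hr k (by omega)
    set q := apt g (r k) with hq
    have hq' : q < 3510 := apt_lt g hlt
    have hcont : contB e.1 q = true := by
      simp only [contB, Bool.and_eq_true, Nat.beq_eq, Bool.not_eq_true', List.all_eq_true, List.mem_range, hPl]
      refine ⟨⟨?_, Bool.eq_false_iff.2 fun h => hne ?_⟩, fun i hi => ?_⟩
      · have := apt_tapp g (show (0 : ℕ) < 3510 by norm_num) hlt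
        rw [h0, g0] at this
        exact this.symm
      · have h' := Nat.eq_of_beq_eq_true h
        rw [← g0] at h'
        exact apt_injective g h'
      · obtain ⟨hc, hd⟩ := hadj i (by omega) k (by omega) hi
        obtain ⟨hli, -⟩ := hr i (by omega)
        rw [← hfix i hi, hq, ← apt_tapp g hli hlt]
        by_cases hlast : i + 1 = k
        · rw [show Nat.beq (i + 1) k = true by rw [hlast]; exact Nat.beq_refl k, cond_true, Bool.not_eq_true']
          refine Bool.eq_false_iff.2 fun h => ?_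
          have := hc.1 (apt_injective g (Nat.eq_of_beq_eq_true h))
          simp [adjP, hlast] at this
        · rw [Bool.eq_false_iff.2 fun h => hlast (Nat.eq_of_beq_eq_true h), cond_false, Bool.and_eq_true]
          refine ⟨?_, ?_⟩
          · rw [hc.2 (by simp [adjP, Bool.eq_false_iff]; omega)]; exact Nat.beq_refl _
          · rw [Bool.not_eq_true']
            exact Bool.eq_false_iff.2 fun h => hd (apt_injective g (Nat.eq_of_beq_eq_true h)).symm
    have hany := allBelow_spec hall hq'
    rw [hcont, cond_true] at hany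
    obtain ⟨n, hn, hnq⟩ := List.any_eq_true.1 hany
    obtain ⟨t, ht, rfl⟩ := List.getElem_of_mem hn
    obtain ⟨g', g'0, g'P, g'r⟩ := node_reach (e := e) (fun t ht => allBelow_spec hnodes ht) t ht
    rw [List.getD_eq_getElem?_getD, List.getElem?_eq_getElem ht, Option.getD_some,
      Nat.eq_of_beq_eq_true hnq] at g'r
    refine ⟨g' * g, by rw [apt_mul, g0, g'0], e.1 ++ [apt g' q], by simp [hPl], ?_, fun i hi => ?_⟩
    · have := List.all_eq_true.1 hnext _ g'r
      simp only [Bool.or_eq_true, List.any_eq_true] at this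
      rcases this with ⟨e', he', hw⟩ | ⟨f, hf, hw⟩
      · exact Or.inl ⟨e', he', (eq_of_wordEq hw).symm⟩
      · exact Or.inr (eq_of_wordEq hw ▸ hf)
    · rw [apt_mul]
      rcases Nat.lt_succ_iff_lt_or_eq.1 hi with hi' | rfl
      · rw [hfix i hi', List.getD_eq_getElem?_getD, List.getD_eq_getElem?_getD,
          List.getElem?_append_left (by omega)]
        refine g'P _ ?_
        rw [List.getElem?_eq_getElem (by omega), Option.getD_some]
        exact List.getElem_mem _
      · rw [← hq, List.getD_eq_getElem?_getD, List.getElem?_append_right (by omega)]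
        simp [hPl]

end Cfsg.Agent.FischerUnique23
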