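import Cfsg.Agent.Lib.FischerUnique23.Lab
import Cfsg.Agent.Lib.FischerUnique23.Orbit

/-!
A group of type M(23) contains a transposition, a second one not commuting with it and nine neighbours of
the first in the shape of the diagram, eight of them commuting with the second.
-/

set_option autoImplicit false
set_option maxRecDepth 100000

namespace Cfsg.Agent.FischerUnique23

open Cfsg.Agent.CosetCert
open Cfsg.Agent.Fischer.Factor
open Cfsg.Agent.FischerUnique
open Cfsg.Agent.Fi22Local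
open Cfsg.Agent.FischerPresented

universe u

variable {G : Type u} [Group G] [Finite G] {D : Set G}

/-- The common neighbours of two non-commuting members satisfy the rules. -/
theorem rules_common (hT : Cfsg.IsThreeTranspositionGroup D) (hLab : ∀ t ∈ D, ∃ L, Lab D t L)
    (hV : ∀ z ∈ Fi22Class.D, Nonempty (View Fi22Class.D z))
    {t x : G} (ht : t ∈ D) (hx : x ∈ D) (htx : ¬ Commute t x) {L : ℕ → G} (hL : Lab D t L) :
    Rules fun p => p < 3510 ∧ Commute x (L p) := by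
  haveI := Fi22.order_facts.1
  refine ⟨fun p hp => hp.1, fun a b ha hb => ⟨tapp_lt ha.1 hb.1, ?_⟩, fun B hB i hi j hj hij hCi hCj => ?_⟩
  · rw [hL.conj a ha.1 b hb.1]
    exact (ha.2.mul_right hb.2).mul_right ha.2.inv_right
  set b : ℕ → G := fun k => L (B.getD k 0) with hb
  have hbm : ∀ k < 6, b k ∈ Nb D t := fun k hk => hL.mem _ (hB.lt k hk)
  have hbc : ∀ k < 6, ∀ l < 6, Commute (b k) (b l) := fun k hk l hl =>
    (hL.comm _ (hB.lt k hk) _ (hB.lt l hl)).2 (hB.comm k hk l hl)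
  have hbn : ∀ k < 6, ∀ l < 6, k ≠ l → b k ≠ b l := fun k hk l hl h e =>
    hB.ne k hk l hl h (hL.inj _ (hB.lt k hk) _ (hB.lt l hl) e)
  -- the other four positions
  obtain ⟨others, ho1, ho2⟩ : ∃ o : Fin 4 → ℕ, (∀ r, o r < 6 ∧ o r ≠ i ∧ o r ≠ j) ∧
      Function.Injective o := by
    have key : ∀ i < 6, ∀ j < 6, i ≠ j → ∃ o : Fin 4 → ℕ, (∀ r, o r < 6 ∧ o r ≠ i ∧ o r ≠ j) ∧
        Function.Injective o := by
      intro i hi j hj h
      interval_cases i <;> interval_cases j <;> first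
        | exact absurd rfl h
        | exact ⟨![0, 1, 2, 3], by decide, by decide⟩ | exact ⟨![0, 1, 2, 4], by decide, by decide⟩
        | exact ⟨![0, 1, 2, 5], by decide, by decide⟩ | exact ⟨![0, 1, 3, 4], by decide, by decide⟩
        | exact ⟨![0, 1, 3, 5], by decide, by decide⟩ | exact ⟨![0, 1, 4, 5], by decide, by decide⟩
        | exact ⟨![0, 2, 3, 4], by decide, by decide⟩ | exact ⟨![0, 2, 3, 5], by decide, by decide⟩
        | exact ⟨![0, 2, 4, 5], by decide, by decide⟩ | exact ⟨![0, 3, 4, 5], by decide, by decide⟩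
        | exact ⟨![1, 2, 3, 4], by decide, by decide⟩ | exact ⟨![1, 2, 3, 5], by decide, by decide⟩
        | exact ⟨![1, 2, 4, 5], by decide, by decide⟩ | exact ⟨![1, 3, 4, 5], by decide, by decide⟩
        | exact ⟨![2, 3, 4, 5], by decide, by decide⟩
    exact key i hi j hj hij
  -- labels at the member `b i`
  obtain ⟨L', hL'⟩ := hLab _ (hbm i hi).1
  have htnb : t ∈ Nb D (b i) := ⟨ht, (hbm i hi).2.1.symm, (hbm i hi).2.2.symm⟩
  have hxnb : x ∈ Nb D (b i) := ⟨hx, fun e => htx (e ▸ (hbm i hi).2.2), hCi.2.symm⟩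
  have hbnb : ∀ k < 6, k ≠ i → b k ∈ Nb D (b i) := fun k hk h =>
    ⟨(hbm k hk).1, hbn k hk i hi h, hbc i hi k hk⟩
  obtain ⟨u, hu, eu⟩ := hL'.surj t htnb
  obtain ⟨v, hv, ev⟩ := hL'.surj x hxnb
  obtain ⟨s, hs, es⟩ := hL'.surj _ (hbnb j hj hij.symm)
  choose y hy ey using fun r => hL'.surj _ (hbnb _ (ho1 r).1 (ho1 r).2.1)
  have hc : ∀ {p q : ℕ}, p < 3510 → q < 3510 → (Commute (L' p) (L' q) ↔ Commute (trN p) (trN q)) :=
    fun hp hq => (hL'.comm _ hp _ hq).trans (tapp_self_iff hp hq)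
  have hne : ∀ {p q : ℕ}, p < 3510 → q < 3510 → L' p ≠ L' q → trN p ≠ trN q := fun hp hq h e =>
    h (congrArg L' (trN_inj hp hq e))
  have hnb : ∀ {p : ℕ}, p < 3510 → Commute t (L' p) → L' p ≠ t → trN p ∈ Nb Fi22Class.D (trN u) :=
    fun hp hcm h => ⟨trN_mem hp, hne hp hu (eu ▸ h), (hc hu hp).1 (eu ▸ hcm)⟩
  obtain ⟨r, hr, huniq⟩ := block_count D_group hV (trN_mem hu) (trN_mem hv)
    (fun h => htx (by rw [← eu, ← ev]; exact (hc hu hv).2 h))
    (hnb hs (es ▸ (hbm j hj).2.2) (es ▸ (hbm j hj).2.1))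
    ((hc hv hs).1 (by rw [ev, es]; exact hCj.2)) (fun r => trN (y r))
    (fun r => hnb (hy r) (ey r ▸ (hbm _ (ho1 r).1).2.2) (ey r ▸ (hbm _ (ho1 r).1).2.1))
    (fun r => ⟨(hc hs (hy r)).1 (by rw [es, ey]; exact hbc j hj _ (ho1 r).1),
      hne hs (hy r) (by rw [es, ey]; exact hbn j hj _ (ho1 r).1 (ho1 r).2.2.symm)⟩)
    (fun r r' h => hne (hy r) (hy r') (by rw [ey, ey]; exact hbn _ (ho1 r).1 _ (ho1 r').1 fun e => h (ho2 e)))
    (by
      intro z hz hzs hz0 r
      obtain ⟨q, hq, rfl⟩ := exists_trN hz.1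
      refine (hc hq (hy r)).1 ?_
      have hqt : Commute t (L' q) := eu ▸ (hc hu hq).2 hz.2.2
      have hqne : L' q ≠ t := fun e => hz.2.1 (congrArg trN (hL'.inj _ hq _ hu (e.trans eu.symm)))
      have hqb : Commute (L' q) (b i) := (hL'.mem q hq).2.2.symm
      obtain ⟨w, hw, ew⟩ := hL.surj _ ⟨(hL'.mem q hq).1, hqne, hqt⟩
      have hsix : ∀ k < 6, Commute (L' q) (b k) → tapp w (B.getD k 0) = B.getD k 0 := fun k hk h =>
        (hL.comm _ hw _ (hB.lt k hk)).1 (ew ▸ h)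
      rw [ey, ← ew]
      exact (hL.comm _ hw _ (hB.lt _ (ho1 r).1)).2 (hB.max w hw i hi j hj _ (ho1 0).1 hij
        (ho1 0).2.1.symm (ho1 0).2.2.symm (hsix i hi hqb)
        (hsix j hj (es ▸ (hc hq hs).2 hzs)) (hsix _ (ho1 0).1 (ey 0 ▸ (hc hq (hy 0)).2 hz0)) _ (ho1 r).1))
  have hmem : ∀ r, (B.getD (others r) 0 < 3510 ∧ Commute x (L (B.getD (others r) 0))) ↔
      Commute (trN v) (trN (y r)) := fun r => by
    rw [← hc hv (hy r), ev, ey]
    exact ⟨fun h => h.2, fun h => ⟨hB.lt _ (ho1 r).1, h⟩⟩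
  have hcover : ∀ k < 6, k ≠ i → k ≠ j → ∃ r, others r = k := by
    intro k hk hki hkj
    by_contra hno
    push Not at hno
    have h4 : ((Finset.univ.image others) ∪ {i, j, k}).card ≤ 6 := by
      refine (Finset.card_le_card fun n hn => ?_).trans_eq (Finset.card_range 6)
      simp only [Finset.mem_union, Finset.mem_image, Finset.mem_univ, true_and, Finset.mem_insert,
        Finset.mem_singleton] at hn
      rw [Finset.mem_range]
      rcases hn with ⟨r, rfl⟩ | rfl | rfl | rfl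
      exacts [(ho1 r).1, hi, hj, hk]
    rw [Finset.card_union_of_disjoint, Finset.card_image_of_injective _ ho2, Finset.card_univ,
      Fintype.card_fin, Finset.card_insert_of_notMem (by simp [hij, Ne.symm hki]),
      Finset.card_insert_of_notMem (by simp [Ne.symm hkj]), Finset.card_singleton] at h4
    · omega
    · rw [Finset.disjoint_left]
      simp only [Finset.mem_image, Finset.mem_univ, true_and, Finset.mem_insert, Finset.mem_singleton]
      rintro n ⟨r, rfl⟩ (e | e | e)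
      exacts [(ho1 r).2.1 e, (ho1 r).2.2 e, hno r e]
  refine ⟨⟨others r, (ho1 r).1, (ho1 r).2.1, (ho1 r).2.2, (hmem r).2 hr⟩,
    fun k hk l hl hki hkj hli hlj hk' hl' => ?_⟩
  obtain ⟨p, rfl⟩ := hcover k hk hki hkj
  obtain ⟨q, rfl⟩ := hcover l hl hli hlj
  rw [huniq p ((hmem p).1 hk'), huniq q ((hmem q).1 hl')]

/-- The configuration. -/
theorem exists_config (hT : Cfsg.IsThreeTranspositionGroup D) (hprim : Cfsg.IsPrimitiveUnderConj D)
    (ht23 : Cfsg.IsOfTypeM23 G D) : ∃ t ∈ D, ∃ x ∈ D, ∃ L, Lab D t L ∧ ¬ Commute t x ∧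
      Goal fun p => p < 3510 ∧ Commute x (L p) := by
  haveI := Fi22.order_facts.1
  obtain ⟨hLab, hV, hc22, hcD⟩ := exists_lab hT hprim ht23
  obtain ⟨d, hd, -⟩ := hprim.2.1
  obtain ⟨L₀, hL₀⟩ := hLab d hd
  set t := L₀ 0
  set x := L₀ 2
  have ht : t ∈ D := (hL₀.mem 0 (by norm_num)).1
  have hx : x ∈ D := (hL₀.mem 2 (by norm_num)).1
  have htx : ¬ Commute t x := fun h =>
    absurd ((hL₀.comm 0 (by norm_num) 2 (by norm_num)).1 h) (by decide +kernel)
  obtain ⟨a, ha, hat, hax⟩ := hcD t ht x hx htx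
  have hatne : a ≠ t := fun e => htx (e ▸ hax)
  have haxne : a ≠ x := fun e => htx (e ▸ hat.symm)
  obtain ⟨L₁, hL₁⟩ := hLab t ht
  obtain ⟨p, hp, ep⟩ := hL₁.surj a ⟨ha, hatne, hat.symm⟩
  obtain ⟨g, hg⟩ := exists_to_zero hp
  obtain ⟨L, rfl⟩ : ∃ L, L = fun q => L₁ (apt g q) := ⟨_, rfl⟩
  have hL := hL₁.reindex g
  set L := fun q => L₁ (apt g q) with hLdef
  have hL0 : L 0 = a := by show L₁ (apt g 0) = a; rw [hg, ep]
  obtain ⟨L', hL'⟩ := hLab a ha
  obtain ⟨u, hu, eu⟩ := hL'.surj t ⟨ht, hatne.symm, hat⟩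
  obtain ⟨v, hv, ev⟩ := hL'.surj x ⟨hx, haxne.symm, hax⟩
  have hc : ∀ {p q : ℕ}, p < 3510 → q < 3510 → (Commute (L' p) (L' q) ↔ Commute (trN p) (trN q)) :=
    fun hp hq => (hL'.comm _ hp _ hq).trans (tapp_self_iff hp hq)
  have huv : ¬ Commute (trN u) (trN v) := fun h => htx (by rw [← eu, ← ev]; exact (hc hu hv).2 h)
  obtain ⟨W⟩ := hV _ (trN_mem hu)
  obtain ⟨r, hr, hru, hrv⟩ := hc22 _ (trN_mem hu) _ (trN_mem hv) huv
  have hrU : r ∈ Nb Fi22Class.D (trN u) := ⟨hr, fun e => huv (e ▸ hrv), hru.symm⟩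
  obtain ⟨g', hg', hpath⟩ := exists_path (isCommonSet D_group hV (trN_mem hu) (trN_mem hv) huv W)
    (comSet_toVec W hrU hrv.symm)
  have hsix : ∀ i < 6, ∃ z ∈ Nb Fi22Class.D (trN u), Commute (trN v) z ∧ ∃ k : RigidGraph.He.K4, k ≠ 0 ∧
      W.toVec z = k • g' (vec (pp i)) := by
    intro i hi
    obtain ⟨z, hz, hzc, k, hk, e⟩ := hpath i hi
    exact ⟨z, hz, hzc, k⁻¹, inv_ne_zero hk, by rw [e, smul_smul, inv_mul_cancel₀ hk, one_smul]⟩
  choose! z hz hzc k hk ez using hsix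
  have hzp : ∀ i, ∃ p, i < 6 → p < 3510 ∧ trN p = z i := fun i => by
    by_cases hi : i < 6
    · obtain ⟨p, hp, e⟩ := exists_trN (hz i hi).1
      exact ⟨p, fun _ => ⟨hp, e⟩⟩
    · exact ⟨0, fun h => absurd h hi⟩
  choose zp hzp using hzp
  have hzadj : ∀ i < 6, ∀ j < 6, i < j → (Commute (z i) (z j) ↔ adjP i j = false) ∧ z i ≠ z j := by
    intro i hi j hj hij
    constructor
    · rw [W.comm _ (hz i hi) _ (hz j hj), ez i hi, ez j hj, hf_smul_left, hf_smul_right, hg']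
      rw [mul_eq_zero, or_iff_right (hk i hi), mul_eq_zero,
        or_iff_right (fun h => hk j hj ((cj_eq_zero _).1 h)), ← orth_iff, pp_rel i hi j hj]
      simp
    · intro e
      have h1 := ez i hi
      rw [e, ez j hj, ← map_smul, ← map_smul] at h1
      have h2 := g'.injective h1
      have hind : ∀ i < 6, ∀ j < 6, i < j → indep (pp i) (pp j) = true := by decide +kernel
      refine of_indep (pp_pt i hi).1 (hind i hi j hj hij) ((k i)⁻¹ * k j) ?_
      rw [mul_smul, h2, smul_smul, inv_mul_cancel₀ (hk i hi), one_smul]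
      exact add_self' _
  -- back to the labels at `t`
  have hG : ∀ i, ∃ m, i < 6 → m < 3510 ∧ L m = L' (zp i) := fun i => by
    by_cases hi : i < 6
    · obtain ⟨hp, e⟩ := hzp i hi
      have h1 : Commute t (L' (zp i)) := by rw [← eu]; exact (hc hu hp).2 (e ▸ (hz i hi).2.2)
      have h2 : L' (zp i) ≠ t := fun h => (hz i hi).2.1 (by
        rw [← e, hL'.inj _ hp _ hu (h.trans eu.symm)])
      obtain ⟨m, hm, em⟩ := hL.surj _ ⟨(hL'.mem _ hp).1, h2, h1⟩
      exact ⟨m, fun _ => ⟨hm, em⟩⟩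
    · exact ⟨0, fun h => absurd h hi⟩
  choose m hm using hG
  obtain ⟨g'', hg0, f, hf, hfix⟩ := exists_path_kind m (fun i hi => by
      obtain ⟨h1, e⟩ := hm i hi
      refine ⟨h1, (hL.comm 0 (by norm_num) _ h1).1 ?_, fun e0 => (hL'.mem _ (hzp i hi).1).2.1 ?_⟩
      · rw [hL0, e]; exact (hL'.mem _ (hzp i hi).1).2.2
      · rw [← e, e0, hL0])
    (fun i hi j hj hij => by
      obtain ⟨h1, e1⟩ := hm i hi
      obtain ⟨h2, e2⟩ := hm j hj
      obtain ⟨p1, q1⟩ := hzp i hi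
      obtain ⟨p2, q2⟩ := hzp j hj
      obtain ⟨c1, c2⟩ := hzadj i hi j hj hij
      refine ⟨?_, fun e => c2 ?_⟩
      · rw [← hL.comm _ h1 _ h2, e1, e2, hc p1 p2, q1, q2]; exact c1
      · rw [← q1, ← q2, hL'.inj _ p1 _ p2 (by rw [← e1, ← e2, e])])
  have hM := hL.reindex g''⁻¹
  have hfx : ∀ i < 6, apt g''⁻¹ (f.getD i 0) = m i := fun i hi => by
    rw [← hfix i hi, ← apt_mul, inv_mul_cancel, apt_one]
  have h00 : apt g''⁻¹ 0 = 0 := by
    conv_lhs => rw [← hg0]
    rw [← apt_mul, inv_mul_cancel, apt_one]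
  have hR := rules_common hT hLab hV ht hx htx hM
  refine ⟨t, ht, x, hx, _, hM, htx, ?_⟩
  have h0 : Commute x (L (apt g''⁻¹ 0)) := by rw [h00, hL0]; exact hax.symm
  have hi : ∀ i < 6, f.getD i 0 < 3510 ∧ Commute x (L (apt g''⁻¹ (f.getD i 0))) := fun i hi => by
    obtain ⟨h1, e⟩ := hm i hi
    obtain ⟨hp, eq⟩ := hzp i hi
    refine ⟨by rw [← hfix i hi]; exact apt_lt _ h1, ?_⟩
    rw [hfx i hi, e, ← ev]
    exact (hc hv hp).2 (eq ▸ hzc i hi)
  have hst : ∀ l : List ℕ, l = f → Holds (fun p => p < 3510 ∧ Commute x (L (apt g''⁻¹ p))) (0 :: f, []) := by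
    intro l _
    refine ⟨fun a ha => ?_, fun a h => absurd h List.not_mem_nil⟩
    rcases List.mem_cons.1 ha with rfl | ha
    · exact ⟨by norm_num, h0⟩
    obtain ⟨i, hlt, rfl⟩ := List.getElem_of_mem ha
    have hlen : f.length = 6 := by
      simp only [finals, List.mem_cons, List.not_mem_nil, or_false] at hf
      rcases hf with rfl | rfl | rfl <;> rfl
    have := hi i (by omega)
    rwa [List.getD_eq_getElem?_getD, List.getElem?_eq_getElem hlt, Option.getD_some] at this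
  have hst' := hst f rfl
  simp only [finals, List.mem_cons, List.not_mem_nil, or_false] at hf
  rcases hf with rfl | rfl | rfl
  · exact chk_sound hR tree0 tree0_ok hst'
  · exact chk_sound hR tree1 tree1_ok hst'
  · exact chk_sound hR tree2 tree2_ok hst'

end Cfsg.Agent.FischerUnique23
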