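import Cfsg.Agent.Lib.FischerUnique23.Omega

/-!
The normaliser of the cyclic group generated by a product of two non-commuting transpositions in a group of
type M(23).
-/

set_option autoImplicit false
set_option maxRecDepth 100000

namespace Cfsg.Agent.FischerUnique23

open Cfsg.Agent.CosetCert
open Cfsg.Agent.Fischer.Factor
open Cfsg.Agent.FischerPresented

universe u

variable {G : Type u} [Group G] {D : Set G}

/-- Every non-commuting pair is the image of the standard one. -/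
theorem exists_frame_noncomm [Finite G] (hT : Cfsg.IsThreeTranspositionGroup D) (hprim : Cfsg.IsPrimitiveUnderConj D)
    (ht : Cfsg.IsOfTypeM23 G D) {a d : G} (ha : a ∈ D) (hd : d ∈ D) (hnc : ¬ Commute a d) :
    ∃ T : GT ≃* G, T '' Fi23.D = D ∧ T Fi23.z = a ∧ T (gT 9) = d := by
  obtain ⟨Φ, hΦ⟩ := exists_iso hT hprim ht
  obtain ⟨y, hy, rfl⟩ := hΦ.ge ha
  obtain ⟨g, rfl⟩ := Fi23.mem_D.1 hy
  obtain ⟨w, hw, rfl⟩ := hΦ.ge hd
  have hw' : g⁻¹ * w * g ∈ Fi23.D := by
    simpa using D23_group.2.1 g⁻¹ w hw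
  have hnc' : ¬ Commute Fi23.z (g⁻¹ * w * g) := fun h => hnc (by
    have h1 := (h.map (MulAut.conj g).toMonoidHom).map Φ.toMonoidHom
    simpa [mul_assoc] using h1)
  obtain ⟨k, hk, hk9⟩ : ∃ k ∈ Fi23.K, k * gT 9 * k⁻¹ = g⁻¹ * w * g := by
    rcases D23_cases hw' with h | ⟨k, hk, h⟩ | h
    · exact absurd (h ▸ Commute.refl _) hnc'
    · refine absurd ?_ hnc'
      have hkz := Subgroup.mem_centralizer_singleton_iff.1 (Fi23.centralizer_z.ge hk)
      have h3 : Commute (k * Fi23.z * k⁻¹) (k * gT 0 * k⁻¹) :=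
        (show Commute Fi23.z (gT 0) from z_comm_a).map (MulAut.conj k).toMonoidHom
      rwa [hkz, mul_inv_cancel_right, h] at h3
    · exact h
  have hkz := Subgroup.mem_centralizer_singleton_iff.1 (Fi23.centralizer_z.ge hk)
  refine ⟨(MulAut.conj (g * k)).trans Φ, ?_, ?_, ?_⟩
  · rw [← hΦ]
    ext x
    constructor
    · rintro ⟨v, hv, rfl⟩
      exact ⟨_, D23_group.2.1 (g * k) v hv, rfl⟩
    · rintro ⟨v, hv, rfl⟩
      refine ⟨_, D23_group.2.1 (g * k)⁻¹ v hv, ?_⟩
      show Φ (g * k * ((g * k)⁻¹ * v * (g * k)⁻¹⁻¹) * (g * k)⁻¹) = Φ v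
      refine congrArg Φ ?_
      group
  · show Φ (g * k * Fi23.z * (g * k)⁻¹) = _
    refine congrArg Φ ?_
    rw [mul_assoc g k, hkz]
    group
  · show Φ (g * k * gT 9 * (g * k)⁻¹) = Φ w
    refine congrArg Φ ?_
    calc g * k * gT 9 * (g * k)⁻¹ = g * (k * gT 9 * k⁻¹) * g⁻¹ := by group
      _ = w := by rw [hk9]; group

section symThree

variable {a d : G}

/-- The conjugation table of three transpositions. -/
theorem triangle (hD : Cfsg.IsThreeTranspositionGroup D) (ha : a ∈ D) (hd : d ∈ D) (h : ¬ Commute a d) :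
    a * d * a ≠ a ∧ a * d * a ≠ d ∧ a ≠ d ∧ a * (a * d * a) * a = d ∧ d * a * d = a * d * a ∧
      d * (a * d * a) * d = a ∧ (a * d * a) * d * (a * d * a) = a ∧ (a * d * a) * a * (a * d * a) = d := by
  obtain ⟨-, -, hbr, -⟩ := product_facts hD ha hd h
  have a2 := Fischer.TSet.sq hD.1 ha
  have d2 := Fischer.TSet.sq hD.1 hd
  have e1 : a * (a * d * a) * a = d := by simp only [← mul_assoc, a2, one_mul]; rw [mul_assoc, a2, mul_one]
  have e2 : d * (a * d * a) * d = a := by
    rw [hbr]; simp only [← mul_assoc, d2, one_mul]; rw [mul_assoc, d2, mul_one]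
  have hne : a ≠ d := fun e => h (e ▸ Commute.refl a)
  refine ⟨fun e => hne ?_, fun e => h ?_, hne, e1, hbr.symm, e2, ?_, ?_⟩
  · rw [e] at e1
    rw [← e1, a2, one_mul]
  · unfold Commute SemiconjBy
    nth_rewrite 2 [← e]
    rw [mul_assoc (a * d), a2, mul_one]
  · nth_rewrite 1 [hbr]
    calc d * a * d * d * (a * d * a) = d * a * (d * d) * (a * d * a) := by group
      _ = d * (a * a) * (d * a) := by rw [d2]; group
      _ = a := by rw [a2, mul_one, ← mul_assoc, d2, one_mul]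
  · calc a * d * a * a * (a * d * a) = a * d * (a * a) * (a * d * a) := by group
      _ = a * (d * a * d) * a := by rw [a2]; group
      _ = d := by rw [← hbr, e1]

/-- The generated group is symmetric of degree three, and only its identity centralises both. -/
theorem sym_three (hD : Cfsg.IsThreeTranspositionGroup D) (ha : a ∈ D) (hd : d ∈ D) (h : ¬ Commute a d) :
    Nonempty (Subgroup.closure ({a, d} : Set G) ≃* Equiv.Perm (Fin 3)) ∧
    (∀ s ∈ Subgroup.closure ({a, d} : Set G), Commute s a → Commute s d → s = 1) ∧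
    ∀ s : Equiv.Perm (Fin 3), ∃ g ∈ Subgroup.closure ({a, d} : Set G),
      ∀ i, g * ![a, d, a * d * a] i * g⁻¹ = ![a, d, a * d * a] (s i) := by
  obtain ⟨n1, n2, n3, e1, e0, e2, e3, e4⟩ := triangle hD ha hd h
  have a2 := Fischer.TSet.sq hD.1 ha
  have d2 := Fischer.TSet.sq hD.1 hd
  have ai := inv_eq_of_mul_eq_one_right a2
  have di := inv_eq_of_mul_eq_one_right d2
  set P : Fin 3 → G := ![a, d, a * d * a] with hP
  have hinj : Function.Injective P := by
    intro i j e
    fin_cases i <;> fin_cases j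
    all_goals first
      | rfl
      | exact absurd e n3
      | exact absurd e.symm n3
      | exact absurd e n1
      | exact absurd e.symm n1
      | exact absurd e n2
      | exact absurd e.symm n2
  set S := Subgroup.closure ({a, d} : Set G) with hS
  have haS : a ∈ S := Subgroup.subset_closure (Or.inl rfl)
  have hdS : d ∈ S := Subgroup.subset_closure (Or.inr rfl)
  have hPS : ∀ i, P i ∈ S := fun i => by
    fin_cases i
    · exact haS
    · exact hdS
    · exact mul_mem (mul_mem haS hdS) haS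
  have hA : ∀ i, a * P i * a⁻¹ = P (Equiv.swap 1 2 i) := by
    intro i; rw [ai]; fin_cases i
    · show a * a * a = P (Equiv.swap (1 : Fin 3) 2 0)
      rw [show Equiv.swap (1 : Fin 3) 2 0 = 0 by decide, a2, one_mul]; rfl
    · show a * d * a = P (Equiv.swap (1 : Fin 3) 2 1)
      rw [show Equiv.swap (1 : Fin 3) 2 1 = 2 by decide]; rfl
    · show a * (a * d * a) * a = P (Equiv.swap (1 : Fin 3) 2 2)
      rw [show Equiv.swap (1 : Fin 3) 2 2 = 1 by decide, e1]; rfl
  have hDd : ∀ i, d * P i * d⁻¹ = P (Equiv.swap 0 2 i) := by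
    intro i; rw [di]; fin_cases i
    · show d * a * d = P (Equiv.swap (0 : Fin 3) 2 0)
      rw [show Equiv.swap (0 : Fin 3) 2 0 = 2 by decide, e0]; rfl
    · show d * d * d = P (Equiv.swap (0 : Fin 3) 2 1)
      rw [show Equiv.swap (0 : Fin 3) 2 1 = 1 by decide, d2, one_mul]; rfl
    · show d * (a * d * a) * d = P (Equiv.swap (0 : Fin 3) 2 2)
      rw [show Equiv.swap (0 : Fin 3) 2 2 = 0 by decide, e2]; rfl
  have hex : ∀ s ∈ S, ∃ σ : Equiv.Perm (Fin 3), ∀ i, s * P i * s⁻¹ = P (σ i) := by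
    intro s hs
    induction hs using Subgroup.closure_induction with
    | mem y hy => rcases hy with rfl | rfl <;> [exact ⟨_, hA⟩; exact ⟨_, hDd⟩]
    | one => exact ⟨1, fun i => by simp⟩
    | mul x y _ _ hx hy =>
      obtain ⟨σ, hσ⟩ := hx
      obtain ⟨τ, hτ⟩ := hy
      exact ⟨σ * τ, fun i => by rw [Equiv.Perm.mul_apply, ← hσ, ← hτ]; group⟩
    | inv x _ hx =>
      obtain ⟨σ, hσ⟩ := hx
      refine ⟨σ⁻¹, fun i => ?_⟩
      have := hσ (σ⁻¹ i)
      rw [Equiv.Perm.coe_inv, Equiv.apply_symm_apply] at this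
      rw [← this, Equiv.Perm.coe_inv]; group
  choose f hf using fun s : S => hex s s.2
  obtain ⟨φ, hφ⟩ : ∃ φ : S →* Equiv.Perm (Fin 3), ∀ (s : S) i, (s : G) * P i * (s : G)⁻¹ = P (φ s i) :=
    ⟨MonoidHom.mk' f fun s t => Equiv.ext fun i => hinj (by
      rw [← hf, Equiv.Perm.mul_apply, ← hf, ← hf, Subgroup.coe_mul]; group), hf⟩
  -- centrality forces triviality
  have hkey : ∀ s ∈ S, Commute s a → Commute s d → s = 1 := by
    intro s hs c1 c2
    have hform : ∀ s ∈ S, ∃ i : ℤ, s = (a * d) ^ i ∨ s = a * (a * d) ^ i := by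
      intro s hs
      have hinvd : a * (a * d) * a = (a * d)⁻¹ := (product_facts hD ha hd h).2.2.2.1
      have hpow : ∀ i : ℤ, (a * d) ^ i * a = a * (a * d) ^ (-i) := fun i => by
        have e : MulAut.conj a (a * d) = (a * d)⁻¹ := by rw [MulAut.conj_apply, ai, hinvd]
        have e' := map_zpow (MulAut.conj a) (a * d) i
        rw [e, MulAut.conj_apply, ai, inv_zpow, ← zpow_neg] at e'
        rw [← e', ← mul_assoc, ← mul_assoc, a2, one_mul]
      induction hs using Subgroup.closure_induction with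
      | mem y hy =>
        rcases hy with rfl | rfl
        · exact ⟨0, Or.inr (by rw [zpow_zero, mul_one])⟩
        · exact ⟨1, Or.inr (by rw [zpow_one, ← mul_assoc, a2, one_mul])⟩
      | one => exact ⟨0, Or.inl (zpow_zero _).symm⟩
      | mul x y _ _ hx hy =>
        obtain ⟨i, hx | hx⟩ := hx <;> obtain ⟨j, hy | hy⟩ := hy <;> rw [hx, hy]
        · exact ⟨i + j, Or.inl (zpow_add _ _ _).symm⟩
        · exact ⟨-i + j, Or.inr (by rw [← mul_assoc, hpow, mul_assoc, ← zpow_add])⟩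
        · exact ⟨i + j, Or.inr (by rw [mul_assoc, ← zpow_add])⟩
        · exact ⟨-i + j, Or.inl (by rw [mul_assoc a, ← mul_assoc _ a, hpow, mul_assoc a, ← mul_assoc a a, a2,
            one_mul, ← zpow_add])⟩
      | inv x _ hx =>
        obtain ⟨i, hx | hx⟩ := hx <;> rw [hx]
        · exact ⟨-i, Or.inl (zpow_neg _ _).symm⟩
        · exact ⟨i, Or.inr (by rw [mul_inv_rev, ai, ← zpow_neg, hpow, neg_neg])⟩
    obtain ⟨i, rfl | rfl⟩ := hform s hs
    · have e : MulAut.conj a (a * d) = (a * d)⁻¹ := by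
        rw [MulAut.conj_apply, ai, (product_facts hD ha hd h).2.2.2.1]
      have e' := map_zpow (MulAut.conj a) (a * d) i
      rw [e, MulAut.conj_apply, c1.symm.eq, mul_inv_cancel_right, inv_zpow] at e'
      obtain ⟨h3, -⟩ := product_facts hD ha hd h
      have h2 : ((a * d) ^ i) * ((a * d) ^ i) = 1 := by nth_rewrite 2 [e']; rw [mul_inv_cancel]
      have h3' : ((a * d) ^ i) ^ 3 = 1 := by
        rw [← zpow_natCast, ← zpow_mul, mul_comm, zpow_mul, zpow_natCast, h3, one_zpow]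
      rwa [pow_succ, pow_two, h2, one_mul] at h3'
    · exfalso
      have e : MulAut.conj a (a * d) = (a * d)⁻¹ := by
        rw [MulAut.conj_apply, ai, (product_facts hD ha hd h).2.2.2.1]
      have e' := map_zpow (MulAut.conj a) (a * d) i
      have hc : Commute a ((a * d) ^ i) := by
        have := (Commute.refl a).inv_right.mul_right c1.symm
        rwa [inv_mul_cancel_left] at this
      rw [e, MulAut.conj_apply, hc.eq, mul_inv_cancel_right, inv_zpow] at e'
      obtain ⟨h3, -⟩ := product_facts hD ha hd h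
      have h2 : ((a * d) ^ i) * ((a * d) ^ i) = 1 := by nth_rewrite 2 [e']; rw [mul_inv_cancel]
      have h3' : ((a * d) ^ i) ^ 3 = 1 := by
        rw [← zpow_natCast, ← zpow_mul, mul_comm, zpow_mul, zpow_natCast, h3, one_zpow]
      rw [pow_succ, pow_two, h2, one_mul] at h3'
      rw [h3', mul_one] at c2
      exact h c2
  have hφinj : Function.Injective φ := by
    rw [← MonoidHom.ker_eq_bot_iff, eq_bot_iff]
    intro s hs
    rw [MonoidHom.mem_ker] at hs
    have h0 := hφ s 0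
    have h1 := hφ s 1
    rw [hs, Equiv.Perm.one_apply, mul_inv_eq_iff_eq_mul] at h0 h1
    exact Subgroup.mem_bot.2 (Subtype.ext (hkey s s.2 h0 h1))
  have hgen : Function.Surjective φ := by
    have ea : φ ⟨a, haS⟩ = Equiv.swap 1 2 := Equiv.ext fun i => hinj ((hφ _ i).symm.trans (hA i))
    have ed : φ ⟨d, hdS⟩ = Equiv.swap 0 2 := Equiv.ext fun i => hinj ((hφ _ i).symm.trans (hDd i))
    intro σ
    have hall : ∀ σ : Equiv.Perm (Fin 3), σ ∈ ([1, Equiv.swap 1 2, Equiv.swap 0 2,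
        Equiv.swap 1 2 * Equiv.swap 0 2, Equiv.swap 0 2 * Equiv.swap 1 2,
        Equiv.swap 1 2 * Equiv.swap 0 2 * Equiv.swap 1 2] : List (Equiv.Perm (Fin 3))) := by decide
    have := hall σ
    simp only [List.mem_cons, List.not_mem_nil, or_false] at this
    rcases this with rfl | rfl | rfl | rfl | rfl | rfl
    · exact ⟨1, map_one φ⟩
    · exact ⟨_, ea⟩
    · exact ⟨_, ed⟩
    · exact ⟨⟨a, haS⟩ * ⟨d, hdS⟩, by rw [map_mul, ea, ed]⟩
    · exact ⟨⟨d, hdS⟩ * ⟨a, haS⟩, by rw [map_mul, ea, ed]⟩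
    · exact ⟨⟨a, haS⟩ * ⟨d, hdS⟩ * ⟨a, haS⟩, by rw [map_mul, map_mul, ea, ed]⟩
  refine ⟨⟨MulEquiv.ofBijective φ ⟨hφinj, hgen⟩⟩, hkey, fun σ => ?_⟩
  obtain ⟨s, rfl⟩ := hgen σ
  exact ⟨s, s.2, hφ s⟩

end symThree

/-- The normaliser of the group of a non-commuting product, in the presented group. -/
theorem normalizer_model {g : GT} (hg : g * (Fi23.z * gT 9) * g⁻¹ = Fi23.z * gT 9 ∨
    g * (Fi23.z * gT 9) * g⁻¹ = (Fi23.z * gT 9)⁻¹) :
    ∃ s ∈ Subgroup.closure ({Fi23.z, gT 9} : Set GT), s⁻¹ * g ∈ C1 := by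
  obtain ⟨-, -, n3, -⟩ := triangle D23_group z23_mem gT_nine_mem nine_not_commute
  obtain ⟨-, -, -, ia, id, -⟩ := product_facts D23_group z23_mem gT_nine_mem nine_not_commute
  set x := Fi23.z * gT 9 with hx
  have himg : ∀ e ∈ Fi23.D, e * x * e = x⁻¹ →
      ∃ i, g * e * g⁻¹ = ![Fi23.z, gT 9, Fi23.z * gT 9 * Fi23.z] i := by
    intro e he hinv
    have he' := D23_group.2.1 g e he
    have hinv' : (g * e * g⁻¹) * (g * x * g⁻¹) * (g * e * g⁻¹) = (g * x * g⁻¹)⁻¹ := by
      rw [show (g * e * g⁻¹) * (g * x * g⁻¹) * (g * e * g⁻¹) = g * (e * x * e) * g⁻¹ by group, hinv]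
      group
    have hinv2 : (g * e * g⁻¹) * x * (g * e * g⁻¹) = x⁻¹ := by
      rcases hg with h | h <;> rw [h] at hinv'
      · exact hinv'
      · have := congrArg (·⁻¹) hinv'
        have hi : (g * e * g⁻¹)⁻¹ = g * e * g⁻¹ := Fischer.TSet.inv D23_group.1 he'
        simpa [hi, Fischer.TSet.inv D23_group.1 he, mul_inv_rev, mul_assoc] using this
    rcases inverts_three he' hinv2 with h | h | h
    · exact ⟨0, h⟩
    · exact ⟨1, h⟩
    · exact ⟨2, h⟩
  obtain ⟨i, hi⟩ := himg _ z23_mem ia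
  obtain ⟨j, hj⟩ := himg _ gT_nine_mem id
  have hij : i ≠ j := by
    rintro rfl
    exact n3 (mul_left_cancel (mul_right_cancel (hi.trans hj.symm)))
  have hσ : ∀ i j : Fin 3, i ≠ j → ∃ σ : Equiv.Perm (Fin 3), σ 0 = i ∧ σ 1 = j := by decide
  obtain ⟨σ, h0, h1⟩ := hσ i j hij
  obtain ⟨-, -, hs⟩ := sym_three D23_group z23_mem gT_nine_mem nine_not_commute
  obtain ⟨s, hsS, hs⟩ := hs σ
  refine ⟨s, hsS, mem_C1.2 ⟨?_, ?_⟩⟩
  · have e0 := hs 0
    rw [h0, ← hi] at e0
    refine mul_inv_eq_iff_eq_mul.1 ?_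
    calc s⁻¹ * g * Fi23.z * (s⁻¹ * g)⁻¹ = s⁻¹ * (g * Fi23.z * g⁻¹) * s := by group
      _ = Fi23.z := by rw [← e0]; simp [mul_assoc]
  · have e0 := hs 1
    rw [h1, ← hj] at e0
    refine mul_inv_eq_iff_eq_mul.1 ?_
    calc s⁻¹ * g * gT 9 * (s⁻¹ * g)⁻¹ = s⁻¹ * (g * gT 9 * g⁻¹) * s := by group
      _ = gT 9 := by rw [← e0]; simp [mul_assoc]

/-- The transpositions centralising the product commute with both factors. -/
theorem central_model {y : GT} (hy : y ∈ Fi23.D) (hc : Commute y (Fi23.z * gT 9)) : y ∈ C1 := by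
  obtain ⟨h1, h2⟩ := commute_both_of_central D23_group z23_mem gT_nine_mem nine_not_commute
    (fun y hy h => inverts_three hy h) hy hc
  exact mem_C1.2 ⟨h1.symm, h2.symm⟩

end Cfsg.Agent.FischerUnique23
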