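import Cfsg.Agent.Lib.FischerUnique23.Data
import Cfsg.Agent.Lib.Fi22Local.Basic

/-!
Soundness of the derivations about a set of cosets closed under conjugation which meets a block of six
in exactly three points as soon as it meets it in two.
-/

set_option autoImplicit false
set_option maxRecDepth 100000

namespace Cfsg.Agent.FischerUnique23

open Cfsg.Agent.CosetCert
open Cfsg.Agent.Fi22Local

/-- Membership, for evaluation. -/
def memB (a : ℕ) (l : List ℕ) : Bool := l.any (Nat.beq a)

theorem mem_of_memB {a : ℕ} {l : List ℕ} (h : memB a l = true) : a ∈ l := by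
  obtain ⟨b, hb, e⟩ := List.any_eq_true.1 h
  rwa [Nat.eq_of_beq_eq_true e]

/-- Six mutually commuting transpositions such that whatever commutes with three commutes with all. -/
structure BlockOK (B : List ℕ) : Prop where
  lt : ∀ k < 6, B.getD k 0 < 3510
  ne : ∀ k < 6, ∀ l < 6, k ≠ l → B.getD k 0 ≠ B.getD l 0
  comm : ∀ k < 6, ∀ l < 6, tapp (B.getD k 0) (B.getD l 0) = B.getD l 0
  max : ∀ q < 3510, ∀ k < 6, ∀ l < 6, ∀ m < 6, k ≠ l → k ≠ m → l ≠ m →
    tapp q (B.getD k 0) = B.getD k 0 → tapp q (B.getD l 0) = B.getD l 0 → tapp q (B.getD m 0) = B.getD m 0 →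
    ∀ r < 6, tapp q (B.getD r 0) = B.getD r 0

theorem BlockOK.map {B : List ℕ} (h : BlockOK B) (hlen : B.length = 6) (g : GG) :
    BlockOK (B.map (apt g)) := by
  have e : ∀ k < 6, (B.map (apt g)).getD k 0 = apt g (B.getD k 0) := fun k hk => by
    simp [List.getD_eq_getElem?_getD, hlen, hk]
  refine ⟨fun k hk => ?_, fun k hk l hl hne he => ?_, fun k hk l hl => ?_,
    fun q hq k hk l hl m hm n1 n2 n3 c1 c2 c3 r hr => ?_⟩
  · rw [e k hk]; exact apt_lt g (h.lt k hk)
  · rw [e k hk, e l hl] at he; exact h.ne k hk l hl hne (apt_injective g he)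
  · rw [e k hk, e l hl, ← apt_tapp g (h.lt k hk) (h.lt l hl), h.comm k hk l hl]
  · have key : ∀ s < 6, tapp q ((B.map (apt g)).getD s 0) = (B.map (apt g)).getD s 0 ↔
        tapp (apt g⁻¹ q) (B.getD s 0) = B.getD s 0 := fun s hs => by
      conv_lhs => rw [e s hs, show q = apt g (apt g⁻¹ q) by rw [← apt_mul, mul_inv_cancel, apt_one],
        ← apt_tapp g (apt_lt _ hq) (h.lt s hs)]
      exact ⟨fun e => apt_injective g e, fun e => by rw [e]⟩
    exact (key r hr).2 (h.max _ (apt_lt _ hq) k hk l hl m hm n1 n2 n3 ((key k hk).1 c1) ((key l hl).1 c2)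
      ((key m hm).1 c3) r hr)

/-- The flags of the standard block at a point. -/
noncomputable def flag0 (q k : ℕ) : Bool := Nat.beq (tapp q (block0.getD k 0)) (block0.getD k 0)

/-- Fewer than three flags, or all six. -/
def threeSix (fl : List Bool) : Bool :=
  Nat.blt (fl.filter fun b => b).length 3 || Nat.beq (fl.filter fun b => b).length 6

/-- The check behind `threeSix_spec`. -/
def threeSixChk (fl : List Bool) : Bool :=
  !threeSix fl || (List.range 6).all (fun r => fl.getD r false) || (List.range 6).all fun k => (List.range 6).all fun l =>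
    (List.range 6).all fun m => Nat.beq k l || Nat.beq k m || Nat.beq l m ||
      !fl.getD k false || !fl.getD l false || !fl.getD m false

theorem threeSix_all : (List.range 64).all (fun n =>
    threeSixChk ((List.range 6).map fun k => n.testBit k)) = true := by decide +kernel

theorem threeSix_spec (b0 b1 b2 b3 b4 b5 : Bool) (h : threeSix [b0, b1, b2, b3, b4, b5] = true) :
    ∀ k < 6, ∀ l < 6, ∀ m < 6, k ≠ l → k ≠ m → l ≠ m → [b0, b1, b2, b3, b4, b5].getD k false = true →
      [b0, b1, b2, b3, b4, b5].getD l false = true → [b0, b1, b2, b3, b4, b5].getD m false = true →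
      ∀ r < 6, [b0, b1, b2, b3, b4, b5].getD r false = true := by
  intro k hk l hl m hm n1 n2 n3 c1 c2 c3 r hr
  obtain ⟨n, hn, e⟩ : ∃ n, n < 64 ∧ (List.range 6).map (fun k => n.testBit k) = [b0, b1, b2, b3, b4, b5] :=
    ⟨b0.toNat + 2 * b1.toNat + 4 * b2.toNat + 8 * b3.toNat + 16 * b4.toNat + 32 * b5.toNat, by
      cases b0 <;> cases b1 <;> cases b2 <;> cases b3 <;> cases b4 <;> cases b5 <;> exact ⟨by decide, rfl⟩⟩
  have := List.all_eq_true.1 threeSix_all n (List.mem_range.2 hn)
  rw [e] at this
  simp only [threeSixChk, h, Bool.not_true, Bool.false_or, Bool.or_eq_true, List.all_eq_true,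
    List.mem_range, Bool.not_eq_true'] at this
  rcases this with h' | h'
  · exact h' r hr
  · rcases h' k hk l hl m hm with ((((e | e) | e) | e) | e) | e
    · exact absurd (Nat.eq_of_beq_eq_true e) n1
    · exact absurd (Nat.eq_of_beq_eq_true e) n2
    · exact absurd (Nat.eq_of_beq_eq_true e) n3
    · rw [c1] at e; exact Bool.noConfusion e
    · rw [c2] at e; exact Bool.noConfusion e
    · rw [c3] at e; exact Bool.noConfusion e

theorem block0_ok : allBelow (fun q => threeSix ((List.range 6).map (flag0 q))) 3510 = true := by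
  decide +kernel

theorem block0_small : ((List.range 6).all fun k => Nat.blt (block0.getD k 0) 3510 &&
    (List.range 6).all fun l => flag0 (block0.getD k 0) l &&
      (Nat.beq k l || !Nat.beq (block0.getD k 0) (block0.getD l 0))) = true := by decide +kernel

theorem block0_valid : BlockOK block0 := by
  have h := block0_small
  simp only [List.all_eq_true, List.mem_range, Bool.and_eq_true, Bool.or_eq_true, Nat.blt_eq] at h
  refine ⟨fun k hk => (h k hk).1, fun k hk l hl hne he => ?_, fun k hk l hl =>
    Nat.eq_of_beq_eq_true ((h k hk).2 l hl).1, fun q hq k hk l hl m hm n1 n2 n3 c1 c2 c3 r hr => ?_⟩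
  · rcases ((h k hk).2 l hl).2 with e | e
    · exact hne (Nat.eq_of_beq_eq_true e)
    · rw [he] at e; simp at e
  · have hb : ∀ s < 6, [flag0 q 0, flag0 q 1, flag0 q 2, flag0 q 3, flag0 q 4, flag0 q 5].getD s false = flag0 q s := by
      intro s hs; interval_cases s <;> rfl
    have f : ∀ s < 6, flag0 q s = true ↔ tapp q (block0.getD s 0) = block0.getD s 0 := fun s _ => by
      simp only [flag0, Nat.beq_eq]
    have := threeSix_spec _ _ _ _ _ _ (allBelow_spec block0_ok hq) k hk l hl m hm n1 n2 n3
      (by rw [hb k hk, f k hk]; exact c1) (by rw [hb l hl, f l hl]; exact c2)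
      (by rw [hb m hm, f m hm]; exact c3) r hr
    rwa [hb r hr, f r hr] at this

theorem blocks_chk : (blocks.all fun p => p.1.all (fun u => Nat.blt u 3510) &&
    wordEq (p.1.foldl (fun cur u => cur.map (tapp u)) block0) p.2) = true := by decide +kernel

theorem BlockOK.foldl : ∀ (us : List ℕ), (∀ u ∈ us, u < 3510) → ∀ {B : List ℕ}, BlockOK B →
    B.length = 6 → BlockOK (us.foldl (fun cur u => cur.map (tapp u)) B)
  | [], _, _, h, _ => h
  | u :: us, hu, B, h, hl => by
    have e : B.map (tapp u) = B.map (apt (trN u)) := by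
      refine List.map_congr_left fun b hb => ?_
      obtain ⟨k, hk, rfl⟩ := List.getElem_of_mem hb
      have := h.lt k (by omega)
      rw [List.getD_eq_getElem?_getD, List.getElem?_eq_getElem hk, Option.getD_some] at this
      exact (apt_trN (hu u List.mem_cons_self) this).symm
    rw [List.foldl_cons, e]
    exact BlockOK.foldl us (fun v hv => hu v (List.mem_cons_of_mem _ hv)) (h.map hl _) (by simpa using hl)

/-- The block with a given number. -/
def blk (i : ℕ) : List ℕ := (blocks.map Prod.snd).getD i []

theorem blk_ok {i : ℕ} (hi : i < blocks.length) : BlockOK (blk i) := by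
  have h := List.all_eq_true.1 blocks_chk blocks[i] (List.getElem_mem hi)
  simp only [Bool.and_eq_true, List.all_eq_true, Nat.blt_eq] at h
  have e : blk i = blocks[i].2 := by simp [blk, List.getD_eq_getElem?_getD, hi]
  rw [e, ← eq_of_wordEq h.2]
  exact BlockOK.foldl _ h.1 block0_valid rfl

/-- The properties of the set. -/
structure Rules (C : ℕ → Prop) : Prop where
  lt : ∀ p, C p → p < 3510
  close : ∀ a b, C a → C b → C (tapp a b)
  three : ∀ B, BlockOK B → ∀ i < 6, ∀ j < 6, i ≠ j → C (B.getD i 0) → C (B.getD j 0) →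
    (∃ k, k < 6 ∧ k ≠ i ∧ k ≠ j ∧ C (B.getD k 0)) ∧
    ∀ k < 6, ∀ l < 6, k ≠ i → k ≠ j → l ≠ i → l ≠ j → C (B.getD k 0) → C (B.getD l 0) → k = l

/-- Distinct positions below six. -/
def posOK : List ℕ → Bool
  | [] => true
  | a :: l => Nat.blt a 6 && !memB a l && posOK l

/-- The positions outside a list. -/
def rest (l : List ℕ) : List ℕ := (List.range 6).filter fun k => !memB k l

/-- One step. -/
noncomputable def step (st : List ℕ × List ℕ) : Step → Option (List ℕ × List ℕ)
  | .cl a b => bif memB a st.1 && memB b st.1 then some (tapp a b :: st.1, st.2) else none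
  | .co a r => bif memB a st.1 && memB (tapp a r) st.2 then some (st.1, r :: st.2) else none
  | .b3 B i j k => bif Nat.blt B blocks.length && posOK [i, j, k] &&
      ([i, j, k].all fun x => memB ((blk B).getD x 0) st.1)
    then some (st.1, ((rest [i, j, k]).map fun x => (blk B).getD x 0) ++ st.2) else none
  | .o3 B i j l m n => bif Nat.blt B blocks.length && posOK [i, j, l, m, n] &&
      ([i, j].all fun x => memB ((blk B).getD x 0) st.1) &&
      ([l, m, n].all fun x => memB ((blk B).getD x 0) st.2)
    then some (((rest [i, j, l, m, n]).map fun x => (blk B).getD x 0) ++ st.1, st.2) else none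

/-- All steps. -/
noncomputable def runSteps : List Step → List ℕ × List ℕ → Option (List ℕ × List ℕ)
  | [], st => some st
  | s :: ss, st => match step st s with
    | some st' => runSteps ss st'
    | none => none

/-- The first points of the nines. -/
def nine (i : ℕ) : List ℕ := [nineA, nineB].getD i nineA

/-- The goal: eight of a nine are in, the remaining one is out. -/
def Goal (C : ℕ → Prop) : Prop :=
  ∃ i < 2, (∀ k < 9, k ≠ 6 → C ((nine i).getD k 0)) ∧ ¬ C ((nine i).getD 6 0)

/-- Evaluation of a derivation. -/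
noncomputable def chk : Tree → List ℕ × List ℕ → Bool
  | .fail s, st => match runSteps s st with
    | some (I, O) => I.any fun a => memB a O
    | none => false
  | .done i s, st => match runSteps s st with
    | some (I, O) => Nat.blt i 2 && ((List.range 9).all fun k =>
        bif Nat.beq k 6 then memB ((nine i).getD k 0) O else memB ((nine i).getD k 0) I)
    | none => false
  | .dec p y n, st => chk y (p :: st.1, st.2) && chk n (st.1, p :: st.2)
  | .split B i j s t₁ t₂ t₃ t₄, st => match runSteps s st with
    | some (I, O) => Nat.blt B blocks.length && posOK [i, j] &&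
        memB ((blk B).getD i 0) I && memB ((blk B).getD j 0) I &&
        chk t₁ ((blk B).getD ((rest [i, j]).getD 0 0) 0 :: I, O) &&
        chk t₂ ((blk B).getD ((rest [i, j]).getD 1 0) 0 :: I, O) &&
        chk t₃ ((blk B).getD ((rest [i, j]).getD 2 0) 0 :: I, O) &&
        chk t₄ ((blk B).getD ((rest [i, j]).getD 3 0) 0 :: I, O)
    | none => false

variable {C : ℕ → Prop}

/-- The meaning of a state. -/
def Holds (C : ℕ → Prop) (st : List ℕ × List ℕ) : Prop := (∀ a ∈ st.1, C a) ∧ ∀ a ∈ st.2, ¬ C a

theorem posOK_spec : ∀ {l : List ℕ}, posOK l = true → l.Nodup ∧ ∀ a ∈ l, a < 6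
  | [], _ => ⟨List.nodup_nil, fun _ h => absurd h List.not_mem_nil⟩
  | a :: l, h => by
    simp only [posOK, Bool.and_eq_true, Nat.blt_eq, Bool.not_eq_true'] at h
    obtain ⟨hnd, hlt⟩ := posOK_spec h.2
    refine ⟨List.nodup_cons.2 ⟨fun hm => ?_, hnd⟩, fun b hb => (List.mem_cons.1 hb).elim
      (fun e => e ▸ h.1.1) (hlt b)⟩
    have : memB a l = true := List.any_eq_true.2 ⟨a, hm, Nat.beq_refl a⟩
    rw [this] at h; exact Bool.noConfusion h.1.2

theorem mem_rest {l : List ℕ} {k : ℕ} (h : k ∈ rest l) : k < 6 ∧ k ∉ l := by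
  simp only [rest, List.mem_filter, List.mem_range, Bool.not_eq_true'] at h
  refine ⟨h.1, fun hm => ?_⟩
  have : memB k l = true := List.any_eq_true.2 ⟨k, hm, Nat.beq_refl k⟩
  rw [this] at h; exact Bool.noConfusion h.2

theorem step_sound (hC : Rules C) {st st' : List ℕ × List ℕ} {s : Step} (h : step st s = some st')
    (hst : Holds C st) : Holds C st' := by
  obtain ⟨hI, hO⟩ := hst
  cases s with
  | cl a b =>
    simp only [step] at h
    cases hb : memB a st.1 && memB b st.1 <;> rw [hb] at h <;>
      simp only [cond_false, cond_true, reduceCtorEq, Option.some.injEq] at h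
    subst h
    simp only [Bool.and_eq_true] at hb
    exact ⟨fun x hx => (List.mem_cons.1 hx).elim
      (fun e => e ▸ hC.close _ _ (hI _ (mem_of_memB hb.1)) (hI _ (mem_of_memB hb.2))) (hI x), hO⟩
  | co a r =>
    simp only [step] at h
    cases hb : memB a st.1 && memB (tapp a r) st.2 <;> rw [hb] at h <;>
      simp only [cond_false, cond_true, reduceCtorEq, Option.some.injEq] at h
    subst h
    simp only [Bool.and_eq_true] at hb
    refine ⟨hI, fun x hx => (List.mem_cons.1 hx).elim (fun e hr => ?_) (hO x)⟩
    exact hO _ (mem_of_memB hb.2) (hC.close _ _ (hI _ (mem_of_memB hb.1)) (e ▸ hr))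
  | b3 B i j k =>
    simp only [step] at h
    cases hb : Nat.blt B blocks.length && posOK [i, j, k] &&
      ([i, j, k].all fun x => memB ((blk B).getD x 0) st.1) <;> rw [hb] at h <;>
      simp only [cond_false, cond_true, reduceCtorEq, Option.some.injEq] at h
    subst h
    simp only [Bool.and_eq_true, Nat.blt_eq, List.all_eq_true] at hb
    obtain ⟨⟨hB, hp⟩, hm⟩ := hb
    obtain ⟨hnd, hlt⟩ := posOK_spec hp
    simp only [List.nodup_cons, List.mem_cons, List.not_mem_nil, or_false, not_or] at hnd
    refine ⟨hI, fun x hx => (List.mem_append.1 hx).elim (fun hx hCx => ?_) (hO x)⟩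
    obtain ⟨q, hq, rfl⟩ := List.mem_map.1 hx
    obtain ⟨hq6, hqn⟩ := mem_rest hq
    simp only [List.mem_cons, List.not_mem_nil, or_false, not_or] at hqn
    have := (hC.three _ (blk_ok hB) i (hlt i (by simp)) j (hlt j (by simp)) hnd.1.1
      (hI _ (mem_of_memB (hm i (by simp)))) (hI _ (mem_of_memB (hm j (by simp))))).2
      q hq6 k (hlt k (by simp)) hqn.1 hqn.2.1 (Ne.symm hnd.1.2) (Ne.symm hnd.2.1) hCx
      (hI _ (mem_of_memB (hm k (by simp))))
    exact hqn.2.2 this
  | o3 B i j l m n =>
    simp only [step] at h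
    cases hb : Nat.blt B blocks.length && posOK [i, j, l, m, n] &&
      ([i, j].all fun x => memB ((blk B).getD x 0) st.1) &&
      ([l, m, n].all fun x => memB ((blk B).getD x 0) st.2) <;> rw [hb] at h <;>
      simp only [cond_false, cond_true, reduceCtorEq, Option.some.injEq] at h
    subst h
    simp only [Bool.and_eq_true, Nat.blt_eq, List.all_eq_true] at hb
    obtain ⟨⟨⟨hB, hp⟩, hm1⟩, hm2⟩ := hb
    obtain ⟨hnd, hlt⟩ := posOK_spec hp
    refine ⟨fun x hx => (List.mem_append.1 hx).elim (fun hx => ?_) (hI x), hO⟩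
    obtain ⟨q, hq, rfl⟩ := List.mem_map.1 hx
    obtain ⟨hq6, hqn⟩ := mem_rest hq
    simp only [List.nodup_cons, List.mem_cons, List.not_mem_nil, or_false, not_or] at hnd hqn
    obtain ⟨r, hr, hri, hrj, hCr⟩ := (hC.three _ (blk_ok hB) i (hlt i (by simp)) j (hlt j (by simp)) hnd.1.1
      (hI _ (mem_of_memB (hm1 i (by simp)))) (hI _ (mem_of_memB (hm1 j (by simp))))).1
    have hout : ∀ y ∈ [l, m, n], r ≠ y := fun y hy e => hO _ (mem_of_memB (hm2 y hy)) (e ▸ hCr)
    have h1 := hlt i (by simp); have h2 := hlt j (by simp); have h3 := hlt l (by simp)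
    have h4 := hlt m (by simp); have h5 := hlt n (by simp)
    have o1 := hout l (by simp); have o2 := hout m (by simp); have o3 := hout n (by simp)
    have : r = q := by omega
    exact this ▸ hCr

theorem runSteps_sound (hC : Rules C) : ∀ (ss : List Step) {st st' : List ℕ × List ℕ},
    runSteps ss st = some st' → Holds C st → Holds C st'
  | [], _, _, h, hst => by simp only [runSteps, Option.some.injEq] at h; exact h ▸ hst
  | s :: ss, st, st', h, hst => by
    simp only [runSteps] at h
    cases hs : step st s with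
    | none => rw [hs] at h; simp at h
    | some st₁ => rw [hs] at h; exact runSteps_sound hC ss h (step_sound hC hs hst)

theorem chk_sound (hC : Rules C) : ∀ (t : Tree) {st : List ℕ × List ℕ}, chk t st = true → Holds C st → Goal C
  | .fail s, st, h, hst => by
    simp only [chk] at h
    cases hr : runSteps s st with
    | none => rw [hr] at h; simp at h
    | some q =>
      rw [hr] at h
      obtain ⟨a, ha, hm⟩ := List.any_eq_true.1 h
      obtain ⟨h1, h2⟩ := runSteps_sound hC s hr hst
      exact absurd (h1 a ha) (h2 a (mem_of_memB hm))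
  | .done i s, st, h, hst => by
    simp only [chk] at h
    cases hr : runSteps s st with
    | none => rw [hr] at h; simp at h
    | some q =>
      rw [hr] at h
      simp only [Bool.and_eq_true, Nat.blt_eq, List.all_eq_true, List.mem_range] at h
      obtain ⟨h1, h2⟩ := runSteps_sound hC s hr hst
      refine ⟨i, h.1, fun k hk hk6 => h1 _ ?_, h2 _ ?_⟩
      · have := h.2 k hk
        rw [show Nat.beq k 6 = false from Bool.eq_false_iff.2 fun e => hk6 (Nat.eq_of_beq_eq_true e)] at this
        exact mem_of_memB this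
      · exact mem_of_memB (h.2 6 (by norm_num))
  | .dec p y n, st, h, hst => by
    simp only [chk, Bool.and_eq_true] at h
    by_cases hp : C p
    · exact chk_sound hC y h.1 ⟨fun x hx => (List.mem_cons.1 hx).elim (fun e => e ▸ hp) (hst.1 x), hst.2⟩
    · exact chk_sound hC n h.2 ⟨hst.1, fun x hx => (List.mem_cons.1 hx).elim (fun e => e ▸ hp) (hst.2 x)⟩
  | .split B i j s t₁ t₂ t₃ t₄, st, h, hst => by
    simp only [chk] at h
    cases hr : runSteps s st with
    | none => rw [hr] at h; simp at h
    | some q =>
      rw [hr] at h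
      simp only [Bool.and_eq_true, Nat.blt_eq] at h
      obtain ⟨⟨⟨⟨⟨⟨⟨hB, hp⟩, hi⟩, hj⟩, c1⟩, c2⟩, c3⟩, c4⟩ := h
      obtain ⟨h1, h2⟩ := runSteps_sound hC s hr hst
      obtain ⟨hnd, hlt⟩ := posOK_spec hp
      simp only [List.nodup_cons, List.mem_cons, List.not_mem_nil, or_false] at hnd
      obtain ⟨r, hr6, hri, hrj, hCr⟩ := (hC.three _ (blk_ok hB) i (hlt i (by simp)) j (hlt j (by simp)) hnd.1
        (h1 _ (mem_of_memB hi)) (h1 _ (mem_of_memB hj))).1
      have key : ∃ k < 4, (rest [i, j]).getD k 0 = r := by
        have hi6 := hlt i (by simp)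
        have hj6 := hlt j (by simp)
        have hall : ((List.range 6).all fun i => (List.range 6).all fun j => (List.range 6).all fun r =>
            Nat.beq i j || Nat.beq r i || Nat.beq r j ||
              (List.range 4).any (fun k => Nat.beq ((rest [i, j]).getD k 0) r)) = true := by
          decide +kernel
        simp only [List.all_eq_true, List.mem_range, Bool.or_eq_true] at hall
        obtain ⟨k, hk, e⟩ := List.any_eq_true.1 ((((hall i hi6 j hj6 r hr6).resolve_left fun e => by
          rcases e with (e | e) | e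
          · exact hnd.1 (Nat.eq_of_beq_eq_true e)
          · exact hri (Nat.eq_of_beq_eq_true e)
          · exact hrj (Nat.eq_of_beq_eq_true e))))
        exact ⟨k, List.mem_range.1 hk, Nat.eq_of_beq_eq_true e⟩
      obtain ⟨k, hk, rfl⟩ := key
      have hnew : Holds C ((blk B).getD ((rest [i, j]).getD k 0) 0 :: q.1, q.2) :=
        ⟨fun x hx => (List.mem_cons.1 hx).elim (fun e => e ▸ hCr) (h1 x), h2⟩
      interval_cases k
      · exact chk_sound hC t₁ c1 hnew
      · exact chk_sound hC t₂ c2 hnew
      · exact chk_sound hC t₃ c3 hnew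
      · exact chk_sound hC t₄ c4 hnew

theorem tree0_ok : chk tree0 ([0, 7, 8, 50, 105, 107, 108], []) = true := by decide +kernel

theorem tree1_ok : chk tree1 ([0, 7, 8, 50, 105, 137, 108], []) = true := by decide +kernel

theorem tree2_ok : chk tree2 ([0, 7, 8, 50, 105, 1067, 108], []) = true := by decide +kernel

end Cfsg.Agent.FischerUnique23
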